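import Cfsg.Agent.Lib.SpFourEven.Commutant

/-! An absolutely irreducible simple normal subgroup: subfield, quadratic form, or the residual class. -/

set_option autoImplicit false
set_option linter.unusedSectionVars false
set_option linter.style.haveILetI false

open scoped Matrix MatrixGroups

namespace Cfsg.Agent.Lib.SpFourEven

variable {ι : Type} [Fintype ι] [DecidableEq ι] {F : Type*} [Field F] [Fintype F]
  {f : (ι → F) → (ι → F) → F}

/-- `H` lies in a subfield group whose structure carries a multiple of `f` -/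
def SubOut (f : (ι → F) → (ι → F) → F) (H : Subgroup (GL ι F)) : Prop :=
  ∃ (F₀ : Subfield F) (r : ℕ) (P : GL ι F) (ζ : F), r.Prime ∧ Fintype.card F = Nat.card F₀ ^ r ∧ ζ ≠ 0 ∧
    Cfsg.Geo.IsFormRationalStructure f F₀ ζ P ∧ H ≤ Cfsg.Geo.subfieldSubgroup F₀ P

lemma map_mulVec (φ : F →+* F) (X : Matrix ι ι F) (w : ι → F) :
    (φ ∘ (X *ᵥ w)) = X.map φ *ᵥ (φ ∘ w) := by
  funext i
  exact RingHom.map_mulVec φ X w i

namespace Setup

variable (h : Setup f)
include h

lemma eq_of_forall {x y : ι → F} (hxy : ∀ u, f u x = f u y) : x = y := by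
  by_contra hne
  obtain ⟨u, hu⟩ := (h.symp.nondegenerate _ (sub_ne_zero.2 hne)).1
  apply hu
  rw [sub_eq_add_neg, ← neg_one_smul F y, h.symp.bilinear.add_right, h.symp.bilinear.smul_right, hxy]
  ring

/-- an invariant bilinear form of an absolutely irreducible group is a multiple of `f` -/
theorem invariant_form {N : Subgroup (GL ι F)} (hi : Isom f N)
    (hab : Cfsg.Geo.ActsAbsolutelyIrreducibly (Cfsg.Geo.matrixSet N)) {g : (ι → F) → (ι → F) → F}
    (hg : Cfsg.Geo.IsBilinearForm g) (hgN : ∀ m ∈ N, ∀ u v, g (ac m u) (ac m v) = g u v) :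
    ∃ c : F, ∀ u v, g u v = c * f u v := by
  let B' : LinearMap.BilinForm F (ι → F) := LinearMap.mk₂ F g hg.add_left (fun c x v => hg.smul_left c x v)
    hg.add_right (fun c x v => hg.smul_right c x v)
  let φ := LinearMap.BilinForm.symmCompOfNondegenerate B' h.bil h.nondeg
  have hφ : ∀ u v, f (φ u) v = g u v := fun u v =>
    LinearMap.BilinForm.symmCompOfNondegenerate_left_apply B' h.nondeg v u
  obtain ⟨c, hc⟩ := hab.2 (LinearMap.toMatrix' φ) (by
    rintro _ ⟨m, hm, rfl⟩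
    refine Matrix.toLin'.injective (LinearMap.ext fun v => ?_)
    rw [Matrix.toLin'_apply, Matrix.toLin'_apply, ← Matrix.mulVec_mulVec, ← Matrix.mulVec_mulVec,
      LinearMap.toMatrix'_mulVec, LinearMap.toMatrix'_mulVec]
    refine h.eq_of_forall fun u => ?_
    show f u (φ (ac m v)) = f u (ac m (φ v))
    rw [h.symm u, h.symm u, hφ, ← ac_ac_inv m u, hgN m hm, hi m hm, hφ])
  refine ⟨c, fun u v => ?_⟩
  rw [← hφ, ← LinearMap.toMatrix'_mulVec φ u, hc, Matrix.smul_mulVec, Matrix.one_mulVec,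
    h.symp.bilinear.smul_left]

lemma scalar_eq_one {g : GL ι F} (hg : ∀ u v, f (ac g u) (ac g v) = f u v) (hs : g ∈ Cfsg.Geo.scalars ι F) :
    g = 1 := by
  obtain ⟨c, hc⟩ := (Cfsg.Geo.mem_scalars_iff g).1 hs
  haveI : Nonempty ι := Fintype.card_pos_iff.1 (by rw [h.card]; norm_num)
  obtain ⟨v, hv⟩ := exists_ne (0 : ι → F)
  obtain ⟨u, hu⟩ := (h.symp.nondegenerate v hv).1
  have h1 := hg u v
  simp only [ac, hc, Matrix.smul_mulVec, Matrix.one_mulVec, h.symp.bilinear.smul_left,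
    h.symp.bilinear.smul_right] at h1
  have h2 : ((c : F) - 1) * ((c : F) - 1) = 0 := by
    refine mul_left_cancel₀ hu ?_
    linear_combination h1 + (f u v - (c : F) * f u v) * h.two
  refine Units.ext ?_
  rw [hc, sub_eq_zero.1 (mul_self_eq_zero.1 h2), one_smul, Units.val_one]

/-- a fixed quadratic form gives one polarising to `f` -/
theorem hasQ_of_fixes {N : Subgroup (GL ι F)} (hi : Isom f N)
    (hab : Cfsg.Geo.ActsAbsolutelyIrreducibly (Cfsg.Geo.matrixSet N)) {Q : (ι → F) → F}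
    (hQ : Cfsg.Geo.IsNondegenerateQuadraticForm Q) (hQN : Cfsg.Geo.FixesQuadForm (Cfsg.Geo.matrixSet N) Q) :
    HasQ f N := by
  have hfix : ∀ m ∈ N, ∀ v, Q (ac m v) = Q v := fun m hm => hQN _ ⟨m, hm, rfl⟩
  obtain ⟨c, hc⟩ := h.invariant_form hi hab hQ.polar_bilinear fun m hm u v => by
    simp only [QuadraticMap.polar]
    rw [show ac m u + ac m v = ac m (u + v) from (Matrix.mulVec_add _ _ _).symm, hfix m hm, hfix m hm, hfix m hm]
  have hc0 : c ≠ 0 := by
    rintro rfl
    haveI : Nonempty ι := Fintype.card_pos_iff.1 (by rw [h.card]; norm_num)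
    obtain ⟨v, hv⟩ := exists_ne (0 : ι → F)
    obtain ⟨u, hu⟩ := (hQ.nondegenerate v hv).1
    exact hu (by rw [hc, zero_mul])
  refine ⟨fun v => c⁻¹ * Q v, fun a v => ?_, fun u v => ?_, fun m hm v => ?_⟩
  · show c⁻¹ * Q (a • v) = _
    rw [hQ.smul]; ring
  · show c⁻¹ * Q (u + v) - c⁻¹ * Q u - c⁻¹ * Q v = f u v
    have := hc u v
    simp only [QuadraticMap.polar] at this
    rw [← mul_sub, ← mul_sub, this, ← mul_assoc, inv_mul_cancel₀ hc0, one_mul]
  · show c⁻¹ * Q (ac m v) = c⁻¹ * Q v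
    rw [hfix m hm]

/-- a fixed unitary form gives realisability over the fixed field -/
theorem realisable_of_unitary {N : Subgroup (GL ι F)} (hi : Isom f N)
    (hab : Cfsg.Geo.ActsAbsolutelyIrreducibly (Cfsg.Geo.matrixSet N)) {σ : F ≃+* F}
    {g : (ι → F) → (ι → F) → F} (hg : Cfsg.Geo.IsUnitaryForm σ g)
    (hgN : Cfsg.Geo.FixesForm (Cfsg.Geo.matrixSet N) g) :
    ∃ F₀ : Subfield F, F₀ ≠ ⊤ ∧ Cfsg.Geo.RealisableOver F₀ (Cfsg.Geo.matrixSet N) := by
  classical
  haveI : Nonempty ι := Fintype.card_pos_iff.1 (by rw [h.card]; norm_num)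
  have hgr : ∀ (c : F) (x v : ι → F), g x (c • v) = σ c * g x v := fun c x v => by
    rw [hg.herm, hg.smul_left, map_mul, ← hg.herm]
  have hga : ∀ x y v : ι → F, g v (x + y) = g v x + g v y := fun x y v => by
    rw [hg.herm, hg.add_left, map_add, ← hg.herm, ← hg.herm]
  let ψ : (ι → F) → ((ι → F) →ₗ[F] F) := fun v =>
    { toFun := fun u => g u v
      map_add' := fun x y => hg.add_left x y v
      map_smul' := fun c x => hg.smul_left c x v }
  let J : (ι → F) → (ι → F) := fun v => (h.bil.toDual h.nondeg).symm (ψ v)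
  have hJ : ∀ u v, f u (J v) = g u v := fun u v => by
    rw [h.symm]
    exact LinearMap.congr_fun ((h.bil.toDual h.nondeg).apply_symm_apply (ψ v)) u
  have hJadd : ∀ x y, J (x + y) = J x + J y := fun x y => h.eq_of_forall fun u => by
    rw [h.symp.bilinear.add_right, hJ, hJ, hJ, hga]
  have hJsmul : ∀ (c : F) x, J (c • x) = σ c • J x := fun c x => h.eq_of_forall fun u => by
    rw [h.symp.bilinear.smul_right, hJ, hJ, hgr]
  have hJ0 : J 0 = 0 := by rw [← zero_smul F (0 : ι → F), hJsmul, map_zero, zero_smul, zero_smul]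
  have hJinj : ∀ x, J x = 0 → x = 0 := fun x hx => by
    by_contra hne
    obtain ⟨u, hu⟩ := (hg.nondegenerate x hne).1
    exact hu (by rw [← hJ, hx, ← zero_smul F (0 : ι → F), h.symp.bilinear.smul_right, zero_mul])
  have hJN : ∀ m ∈ N, ∀ v, J (ac m v) = ac m (J v) := fun m hm v => h.eq_of_forall fun u => by
    conv_lhs => rw [hJ, ← ac_ac_inv m u, hgN _ ⟨m, hm, rfl⟩, ← hJ, ← hi m hm, ac_ac_inv]
  let L : (ι → F) →ₗ[F] (ι → F) :=
    { toFun := fun v => J (J v)
      map_add' := fun x y => by rw [hJadd, hJadd]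
      map_smul' := fun c x => by simp only [hJsmul, hg.involutive, RingHom.id_apply] }
  obtain ⟨c, hc⟩ := hab.2 (LinearMap.toMatrix' L) (by
    rintro _ ⟨m, hm, rfl⟩
    refine Matrix.toLin'.injective (LinearMap.ext fun v => ?_)
    rw [Matrix.toLin'_apply, Matrix.toLin'_apply, ← Matrix.mulVec_mulVec, ← Matrix.mulVec_mulVec,
      LinearMap.toMatrix'_mulVec, LinearMap.toMatrix'_mulVec]
    show J (J (ac m v)) = ac m (J (J v))
    rw [hJN m hm, hJN m hm])
  have hJJ : ∀ v, J (J v) = c • v := fun v => by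
    show L v = c • v
    rw [← LinearMap.toMatrix'_mulVec L v, hc, Matrix.smul_mulVec, Matrix.one_mulVec]
  obtain ⟨v0, hv0⟩ := exists_ne (0 : ι → F)
  have hc0 : c ≠ 0 := fun h0 => hv0 (hJinj _ (hJinj _ (by rw [hJJ, h0, zero_smul])))
  have hσc : σ c = c := by
    refine smul_left_injective F (fun e => hv0 (hJinj _ e) : J v0 ≠ 0) ?_
    show σ c • J v0 = c • J v0
    rw [← hJsmul, ← hJJ, hJJ (J v0)]
  obtain ⟨d, hd⟩ := h.exists_sqrt c
  have hσd : σ d = d := by
    have h1 : σ d * σ d = d * d := by rw [← map_mul, hd, hσc]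
    exact sub_eq_zero.1 (mul_self_eq_zero.1
      (by linear_combination h1 + (d * d - σ d * d) * h.two : (σ d - d) * (σ d - d) = 0))
  have hd0 : d ≠ 0 := fun h0 => hc0 (by rw [← hd, h0, mul_zero])
  let J' : (ι → F) → (ι → F) := fun v => d⁻¹ • J v
  have hJ'add : ∀ x y, J' (x + y) = J' x + J' y := fun x y => by
    show d⁻¹ • J (x + y) = _
    rw [hJadd, smul_add]
  have hJ's : ∀ (a : F) x, J' (a • x) = σ a • J' x := fun a x => by
    show d⁻¹ • J (a • x) = σ a • d⁻¹ • J x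
    rw [hJsmul, smul_comm]
  have hJ'J' : ∀ x, J' (J' x) = x := fun x => by
    show d⁻¹ • J (d⁻¹ • J x) = x
    rw [hJsmul, map_inv₀, hσd, hJJ, smul_smul, smul_smul, ← hd]
    rw [show d⁻¹ * d⁻¹ * (d * d) = (d⁻¹ * d) * (d⁻¹ * d) by ring, inv_mul_cancel₀ hd0, one_mul, one_smul]
  set S : Set (ι → F) := {v | J' v = v} with hS
  obtain ⟨l, hl⟩ : ∃ l : F, σ l ≠ l := by
    by_contra hcon
    push Not at hcon
    exact hg.ne_refl (RingEquiv.ext hcon)
  have hspan : Submodule.span F S = ⊤ := by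
    rw [eq_top_iff]
    rintro v -
    have h1 : v + J' v ∈ S := by
      show J' _ = _
      rw [hJ'add, hJ'J', add_comm]
    have h2 : l • v + σ l • J' v ∈ S := by
      show J' _ = _
      rw [hJ'add, hJ's, hJ's, hJ'J', hg.involutive, add_comm]
    have h3 : (l • v + σ l • J' v) - σ l • (v + J' v) ∈ Submodule.span F S :=
      sub_mem (Submodule.subset_span h2) (Submodule.smul_mem _ _ (Submodule.subset_span h1))
    rw [smul_add, add_sub_add_right_eq_sub, ← sub_smul] at h3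
    have := Submodule.smul_mem _ (l - σ l)⁻¹ h3
    rwa [smul_smul, inv_mul_cancel₀ (sub_ne_zero.2 (Ne.symm hl)), one_smul] at this
  obtain ⟨b, hbS, hbspan, hbli⟩ := exists_linearIndependent F S
  let bb : Module.Basis b F (ι → F) := Module.Basis.mk hbli (by
    rw [Subtype.range_coe]; rw [hbspan, hspan])
  haveI : Fintype b := Fintype.ofFinite b
  have hcardb : Fintype.card b = Fintype.card ι := by
    rw [← Module.finrank_eq_card_basis bb, Module.finrank_fintype_fun_eq_card]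
  let bι := bb.reindex (Fintype.equivOfCardEq hcardb)
  have hbι : ∀ i, J' (bι i) = bι i := fun i => by
    show J' (bb.reindex _ i) = bb.reindex _ i
    rw [Module.Basis.reindex_apply, Module.Basis.mk_apply]
    exact hbS (Subtype.coe_prop _)
  let e : (ι → F) ≃ₗ[F] (ι → F) := bι.equivFun.symm
  let P : GL ι F := Matrix.GeneralLinearGroup.toLin.symm (LinearMap.GeneralLinearGroup.ofLinearEquiv e)
  have hP : ∀ x, ac P x = e x := fun x => by
    show (P : Matrix ι ι F) *ᵥ x = _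
    rw [← Matrix.toLin'_apply]
    exact LinearMap.congr_fun (congrArg Units.val
      ((Matrix.GeneralLinearGroup.toLin (n := ι) (R := F)).apply_symm_apply
        (LinearMap.GeneralLinearGroup.ofLinearEquiv e))) x
  have hPσ : ∀ x, J' (ac P x) = ac P (σ ∘ x) := fun x => by
    rw [hP, hP]
    show J' (bι.equivFun.symm x) = bι.equivFun.symm (σ ∘ x)
    rw [Module.Basis.equivFun_symm_apply, Module.Basis.equivFun_symm_apply]
    let Jh : (ι → F) →+ (ι → F) := AddMonoidHom.mk' J' hJ'add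
    show Jh _ = _
    rw [map_sum]
    refine Finset.sum_congr rfl fun i _ => ?_
    show J' (x i • bι i) = σ (x i) • bι i
    rw [hJ's, hbι]
  let Fx : Subfield F := RingHom.eqLocusField (σ : F →+* F) (RingHom.id F)
  refine ⟨Fx, fun htop => ?_, P⁻¹, ?_⟩
  · exact hl (show l ∈ Fx from htop ▸ Subfield.mem_top l)
  · rintro _ ⟨m, hm, rfl⟩ i j
    rw [inv_inv]
    set A : Matrix ι ι F := ((P⁻¹ : GL ι F) : Matrix ι ι F) * (m : Matrix ι ι F) * (P : Matrix ι ι F) with hA
    have hPA : ∀ x, ac P (A *ᵥ x) = ac m (ac P x) := fun x => by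
      show (P : Matrix ι ι F) *ᵥ (A *ᵥ x) = (m : Matrix ι ι F) *ᵥ ((P : Matrix ι ι F) *ᵥ x)
      rw [Matrix.mulVec_mulVec, Matrix.mulVec_mulVec, hA, ← mul_assoc, ← mul_assoc, Units.mul_inv, one_mul]
    have hσA : A.map (σ : F →+* F) = A := by
      refine Matrix.toLin'.injective (LinearMap.ext fun x => ?_)
      rw [Matrix.toLin'_apply, Matrix.toLin'_apply]
      obtain ⟨y, rfl⟩ : ∃ y : ι → F, (σ : F →+* F) ∘ y = x :=
        ⟨fun i => σ.symm (x i), funext fun i => σ.apply_symm_apply (x i)⟩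
      rw [← map_mulVec]
      refine ac_injective P ?_
      rw [hPA]
      show ac P (σ ∘ (A *ᵥ y)) = ac m (ac P (σ ∘ y))
      rw [← hPσ, ← hPσ, hPA]
      show d⁻¹ • J (ac m (ac P y)) = (m : Matrix ι ι F) *ᵥ (d⁻¹ • J (ac P y))
      rw [hJN m hm, Matrix.mulVec_smul]
    exact congrFun (congrFun hσA i) j

/-- realisability over a proper subfield puts the normaliser into a subfield group -/
theorem subOut_of_realisable {H N : Subgroup (GL ι F)} (hi : Isom f H) (hn : NormalIn H N)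
    (hab : Cfsg.Geo.ActsAbsolutelyIrreducibly (Cfsg.Geo.matrixSet N)) {F₀ : Subfield F} (hF₀ : F₀ ≠ ⊤)
    (hB : Cfsg.Geo.RealisableOver F₀ (Cfsg.Geo.matrixSet N)) : SubOut f H := by
  classical
  haveI := h.charP_two
  haveI : Fact (Nat.Prime 2) := ⟨Nat.prime_two⟩
  haveI : Nonempty ι := Fintype.card_pos_iff.1 (by rw [h.card]; norm_num)
  letI : Fintype F₀ := Fintype.ofFinite F₀
  obtain ⟨B, hB⟩ := hB
  set d := Module.finrank F₀ F with hd
  have hcard : Fintype.card F = Fintype.card F₀ ^ d := by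
    rw [← Nat.card_eq_fintype_card, ← Nat.card_eq_fintype_card, Module.natCard_eq_pow_finrank (K := F₀)]
  have hd2 : 2 ≤ d := by
    have hpos : 0 < d := Module.finrank_pos
    by_contra hlt
    have hd1 : d = 1 := by omega
    apply hF₀
    rw [eq_top_iff]
    rintro x -
    obtain ⟨a, ha⟩ := (finrank_eq_one_iff_of_nonzero' (1 : F) one_ne_zero).1 hd1 x
    rw [← ha, Subfield.smul_def, smul_eq_mul, mul_one]
    exact a.2
  obtain ⟨b, -, hb⟩ := FiniteField.card F₀ 2
  have hr : d.minFac.Prime := Nat.minFac_prime (by omega)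
  set m := Fintype.card F₀ ^ (d / d.minFac) with hm
  have hmF : Fintype.card F = m ^ d.minFac := by
    rw [hcard, hm, ← pow_mul, Nat.div_mul_cancel (Nat.minFac_dvd d)]
  have hm2 : m = 2 ^ ((b : ℕ) * (d / d.minFac)) := by rw [hm, hb, pow_mul]
  let φ : F →+* F := iterateFrobenius F 2 ((b : ℕ) * (d / d.minFac))
  have hφ : ∀ x, φ x = x ^ m := fun x => by rw [hm2]; rfl
  let φe : F ≃+* F := RingEquiv.ofBijective φ ⟨φ.injective, Finite.surjective_of_injective φ.injective⟩
  let F₁ : Subfield F := RingHom.eqLocusField φ (RingHom.id F)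
  have hF1mem : ∀ x, x ∈ F₁ ↔ φ x = x := fun x => Iff.rfl
  have hm4 : 2 ≤ m := by
    rw [hm2]
    exact le_self_pow₀ one_le_two (mul_ne_zero b.ne_zero (Nat.div_pos (Nat.minFac_le (by omega)) hr.pos).ne')
  have hle : ∀ x ∈ F₀, x ∈ F₁ := fun x hx => by
    rw [hF1mem, hφ, hm]
    exact congrArg Subtype.val (FiniteField.pow_card_pow (d / d.minFac) (⟨x, hx⟩ : F₀))
  have hF1card : Nat.card F₁ = m := by
    have hdvd : m - 1 ∣ Nat.card F - 1 := by
      rw [Nat.card_eq_fintype_card, hmF]; simpa using Nat.sub_dvd_pow_sub_pow m 1 d.minFac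
    rw [← card_fix (C := F) hm4 hdvd]
    exact Nat.card_congr (Equiv.subtypeEquivRight fun x => by rw [hF1mem, hφ])
  set P : GL ι F := B⁻¹ with hP
  have hA : ∀ n ∈ N, ((P⁻¹ * n * P : GL ι F) : Matrix ι ι F).map φ = ((P⁻¹ * n * P : GL ι F) : Matrix ι ι F) := by
    intro n hn'
    ext i j
    refine hle _ ?_
    have h1 := hB _ ⟨n, hn', rfl⟩ i j
    rw [hP, inv_inv, Units.val_mul, Units.val_mul]
    exact h1
  have hPP : ∀ x, ac P⁻¹ (ac P x) = x := ac_inv_ac P
  -- the twisted form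
  let T : (ι → F) → (ι → F) := fun u => ac P (φe.symm ∘ ac P⁻¹ u)
  have hTadd : ∀ x y, T (x + y) = T x + T y := fun x y => by
    show (P : Matrix ι ι F) *ᵥ _ = (P : Matrix ι ι F) *ᵥ _ + (P : Matrix ι ι F) *ᵥ _
    rw [← Matrix.mulVec_add]
    congr 1
    funext i
    show φe.symm _ = φe.symm _ + φe.symm _
    rw [← map_add]
    exact congrArg φe.symm (congrFun (Matrix.mulVec_add _ x y) i)
  have hTs : ∀ (c : F) x, T (c • x) = φe.symm c • T x := fun c x => by
    show (P : Matrix ι ι F) *ᵥ _ = φe.symm c • (P : Matrix ι ι F) *ᵥ _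
    rw [← Matrix.mulVec_smul]
    congr 1
    funext i
    show φe.symm _ = φe.symm c * φe.symm _
    rw [← map_mul]
    exact congrArg φe.symm (congrFun (Matrix.mulVec_smul _ c x) i)
  have hTN : ∀ n ∈ N, ∀ u, T (ac n u) = ac n (T u) := fun n hn' u => by
    show ac P (φe.symm ∘ ac P⁻¹ (ac n u)) = ac n (ac P (φe.symm ∘ ac P⁻¹ u))
    rw [← ac_ac_inv P u, ← ac_mul n P, ← ac_mul P⁻¹, ← mul_assoc, hPP]
    rw [← ac_mul n P, show n * P = P * (P⁻¹ * n * P) by group, ac_mul P (P⁻¹ * n * P)]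
    refine congrArg (ac P) ?_
    generalize ac P⁻¹ u = w
    have hAinv := hA n hn'
    show φe.symm ∘ (((P⁻¹ * n * P : GL ι F) : Matrix ι ι F) *ᵥ w) = ((P⁻¹ * n * P : GL ι F) : Matrix ι ι F) *ᵥ (φe.symm ∘ w)
    generalize hgen : ((P⁻¹ * n * P : GL ι F) : Matrix ι ι F) = A at hAinv ⊢
    have hAe : A.map (φe.symm : F →+* F) = A := by
      ext i j
      show φe.symm (A i j) = A i j
      rw [RingEquiv.symm_apply_eq]
      exact (congrFun (congrFun hAinv i) j).symm
    have := map_mulVec (φe.symm : F →+* F) A w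
    rw [hAe] at this
    exact this
  obtain ⟨c, hc⟩ := h.invariant_form (fun m hm => hi m (hn.le hm)) hab (g := fun u v => φ (f (T u) (T v)))
    ⟨fun x y v => by rw [hTadd, h.symp.bilinear.add_left, map_add],
      fun c x v => by rw [hTs, h.symp.bilinear.smul_left, map_mul]; exact congrArg (· * _) (φe.apply_symm_apply c),
      fun v x y => by rw [hTadd, h.symp.bilinear.add_right, map_add],
      fun c v x => by rw [hTs, h.symp.bilinear.smul_right, map_mul]; exact congrArg (· * _) (φe.apply_symm_apply c)⟩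
    (fun n hn' u v => by rw [hTN n hn', hTN n hn', hi n (hn.le hn')])
  have hrat : ∀ x y : ι → F, (∀ i, x i ∈ F₁) → (∀ i, y i ∈ F₁) →
      φ (f (ac P x) (ac P y)) = c * f (ac P x) (ac P y) := by
    intro x y hx hy
    have hfix : ∀ z : ι → F, (∀ i, z i ∈ F₁) → T (ac P z) = ac P z := fun z hz => by
      show ac P (φe.symm ∘ ac P⁻¹ (ac P z)) = ac P z
      rw [hPP]
      congr 1
      funext i
      show φe.symm (z i) = z i
      rw [RingEquiv.symm_apply_eq]
      exact ((hF1mem _).1 (hz i)).symm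
    have := hc (ac P x) (ac P y)
    rwa [hfix x hx, hfix y hy] at this
  have hsingle : ∀ (i j : ι), (Pi.single i (1 : F) : ι → F) j ∈ F₁ := fun i j => by
    by_cases e : j = i
    · subst e; rw [Pi.single_eq_same]; exact one_mem _
    · rw [Pi.single_eq_of_ne e]; exact zero_mem _
  obtain ⟨i, j, hij⟩ : ∃ i j, f (ac P (Pi.single i 1)) (ac P (Pi.single j 1)) ≠ 0 := by
    by_contra hcon
    push Not at hcon
    obtain ⟨v, hv⟩ := exists_ne (0 : ι → F)
    obtain ⟨u, hu⟩ := (h.symp.nondegenerate v hv).1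
    apply hu
    let L₂ : LinearMap.BilinForm F (ι → F) :=
      h.bil.compl₁₂ (Matrix.toLin' (P : Matrix ι ι F)) (Matrix.toLin' (P : Matrix ι ι F))
    have h0 : L₂ = 0 := by
      refine LinearMap.ext_basis (Pi.basisFun F ι) (Pi.basisFun F ι) fun a b => ?_
      rw [Pi.basisFun_apply, Pi.basisFun_apply]
      show f (Matrix.toLin' _ _) (Matrix.toLin' _ _) = 0
      rw [Matrix.toLin'_apply, Matrix.toLin'_apply]
      exact hcon a b
    have h1 : L₂ (ac P⁻¹ u) (ac P⁻¹ v) = 0 := by rw [h0]; rfl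
    change f (Matrix.toLin' _ _) (Matrix.toLin' _ _) = 0 at h1
    rw [Matrix.toLin'_apply, Matrix.toLin'_apply] at h1
    rw [← ac_ac_inv P u, ← ac_ac_inv P v]
    exact h1
  set z0 := f (ac P (Pi.single i 1)) (ac P (Pi.single j 1)) with hz0
  have hz0φ : φ z0 = c * z0 := hrat _ _ (hsingle i) (hsingle j)
  refine ⟨F₁, d.minFac, P, z0⁻¹, hr, by rw [hF1card, hmF], inv_ne_zero hij, fun x y hx hy => ?_, fun g hg => ?_⟩
  · rw [hF1mem, map_mul, map_inv₀, hz0φ, hrat x y hx hy]
    have hc0 : c ≠ 0 := fun e => hij (φ.injective (by rw [hz0φ, e, zero_mul, map_zero]))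
    field_simp
  -- the normaliser is defined over the subfield up to scalars
  set X : GL ι F := P⁻¹ * g * P with hX
  set Xφ : GL ι F := Matrix.GeneralLinearGroup.map φ X with hXφ
  obtain ⟨μ, hμ⟩ := hab.2 ((P * (X⁻¹ * Xφ) * P⁻¹ : GL ι F) : Matrix ι ι F) (by
    rintro _ ⟨n, hn', rfl⟩
    show ((P * (X⁻¹ * Xφ) * P⁻¹ : GL ι F) : Matrix ι ι F) * (n : Matrix ι ι F) = _
    rw [← Units.val_mul, ← Units.val_mul]
    congr 1
    set A : GL ι F := P⁻¹ * n * P with hAdef
    set A' : GL ι F := P⁻¹ * (g * n * g⁻¹) * P with hA'def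
    have hfixA : Matrix.GeneralLinearGroup.map φ A = A := Units.ext (hA n hn')
    have hfixA' : Matrix.GeneralLinearGroup.map φ A' = A' := Units.ext (hA _ (hn.conj g hg n hn'))
    have e1 : X * A = A' * X := by rw [hX, hAdef, hA'def]; group
    have e2 : Xφ * A = A' * Xφ := by
      rw [hXφ, ← hfixA, ← map_mul, e1, map_mul, hfixA']
    calc P * (X⁻¹ * Xφ) * P⁻¹ * n = P * X⁻¹ * (Xφ * A) * P⁻¹ := by rw [hAdef]; group
      _ = P * X⁻¹ * (A' * X) * (X⁻¹ * Xφ) * P⁻¹ := by rw [e2]; group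
      _ = P * X⁻¹ * (X * A) * (X⁻¹ * Xφ) * P⁻¹ := by rw [e1]
      _ = n * (P * (X⁻¹ * Xφ) * P⁻¹) := by rw [hAdef]; group)
  have hXμ : ∀ a b, φ ((X : Matrix ι ι F) a b) = μ * (X : Matrix ι ι F) a b := by
    have h1 : ((X⁻¹ * Xφ : GL ι F) : Matrix ι ι F) = μ • 1 := by
      rw [show X⁻¹ * Xφ = P⁻¹ * (P * (X⁻¹ * Xφ) * P⁻¹) * P by group, Units.val_mul, Units.val_mul, hμ,
        Matrix.mul_smul, Matrix.mul_one, Matrix.smul_mul, Units.inv_mul]
    have h2 : (Xφ : Matrix ι ι F) = μ • (X : Matrix ι ι F) := by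
      rw [show Xφ = X * (X⁻¹ * Xφ) by group, Units.val_mul, h1, Matrix.mul_smul, Matrix.mul_one]
    exact fun a b => congrFun (congrFun h2 a) b
  obtain ⟨a, b', hab'⟩ : ∃ a b, (X : Matrix ι ι F) a b ≠ 0 := by
    by_contra hcon
    push Not at hcon
    exact X.ne_zero (Matrix.ext hcon)
  set t := (X : Matrix ι ι F) a b' with ht
  let Y : Matrix ι ι F₁ := fun k l => ⟨t⁻¹ * (X : Matrix ι ι F) k l, by
    rw [hF1mem, map_mul, map_inv₀, hXμ, hXμ]
    have hμ0 : μ ≠ 0 := fun e => hab' (φ.injective (by rw [hXμ, e, zero_mul, map_zero]))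
    rw [mul_inv, mul_mul_mul_comm, inv_mul_cancel₀ hμ0, one_mul]⟩
  have hYmap : Y.map F₁.subtype = t⁻¹ • (X : Matrix ι ι F) := rfl
  have hYdet : IsUnit Y.det := by
    have h1 : IsUnit ((Y.map F₁.subtype).det) := by
      rw [hYmap, Matrix.det_smul]
      exact ((isUnit_iff_ne_zero.2 (inv_ne_zero hab')).pow _).mul
        ((Matrix.isUnit_iff_isUnit_det _).1 X.isUnit)
    rw [← RingHom.mapMatrix_apply, ← RingHom.map_det] at h1
    exact isUnit_iff_ne_zero.2 fun e => h1.ne_zero (by rw [e, map_zero])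
  let YU : GL ι F₁ := Matrix.GeneralLinearGroup.mk'' Y hYdet
  let tU : GL ι F := Units.map (Matrix.scalar ι : F →+* Matrix ι ι F).toMonoidHom (Units.mk0 t hab')
  have hXeq : X = Matrix.GeneralLinearGroup.map F₁.subtype YU * tU := by
    refine Units.ext ?_
    show (X : Matrix ι ι F) = Y.map F₁.subtype * Matrix.scalar ι t
    rw [hYmap, Matrix.scalar_apply, ← Matrix.smul_one_eq_diagonal, Matrix.mul_smul, Matrix.mul_one, smul_smul,
      mul_inv_cancel₀ hab', one_smul]
  refine ⟨X, hXeq ▸ Subgroup.mul_mem_sup ⟨YU, rfl⟩ ⟨_, rfl⟩, ?_⟩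
  show P * X * P⁻¹ = g
  rw [hX]; group

end Setup

end Cfsg.Agent.Lib.SpFourEven
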