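import Cfsg.Prelude.Def_GeometricClasses

/-! Isometry groups of a four-dimensional symplectic form in characteristic two: invariant subspaces and
invariant quadratic forms. -/

set_option autoImplicit false
set_option linter.unusedSectionVars false

open scoped Matrix MatrixGroups

namespace Cfsg.Agent.Lib.SpFourEven

variable {ι : Type} [Fintype ι] [DecidableEq ι] {F : Type*} [Field F]

/-- the action on column vectors -/
abbrev ac (m : GL ι F) (v : ι → F) : ι → F := (m : Matrix ι ι F) *ᵥ v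

lemma ac_mul (a b : GL ι F) (v : ι → F) : ac (a * b) v = ac a (ac b v) := by
  simp [ac, Matrix.mulVec_mulVec]

lemma ac_one (v : ι → F) : ac (1 : GL ι F) v = v := by simp [ac]

lemma ac_inv_ac (a : GL ι F) (v : ι → F) : ac a⁻¹ (ac a v) = v := by
  rw [← ac_mul, inv_mul_cancel, ac_one]

lemma ac_ac_inv (a : GL ι F) (v : ι → F) : ac a (ac a⁻¹ v) = v := by
  rw [← ac_mul, mul_inv_cancel, ac_one]

lemma ac_injective (a : GL ι F) : Function.Injective (ac a) := fun x y h => by
  rw [← ac_inv_ac a x, h, ac_inv_ac]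

lemma eq_one_of_ac {a : GL ι F} (h : ∀ v, ac a v = v) : a = 1 := by
  refine Units.ext (Matrix.toLin'.injective (LinearMap.ext fun v => ?_))
  rw [Matrix.toLin'_apply, Units.val_one, Matrix.toLin'_one, LinearMap.id_apply]
  exact h v

/-- `W` is invariant under `M` -/
def Inv (M : Subgroup (GL ι F)) (W : Submodule F (ι → F)) : Prop := ∀ m ∈ M, ∀ w ∈ W, ac m w ∈ W

/-- `M` is irreducible -/
def Irr (M : Subgroup (GL ι F)) : Prop := ∀ W : Submodule F (ι → F), Inv M W → W = ⊥ ∨ W = ⊤

/-- `M` preserves `f` -/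
def Isom (f : (ι → F) → (ι → F) → F) (M : Subgroup (GL ι F)) : Prop :=
  ∀ m ∈ M, ∀ u v, f (ac m u) (ac m v) = f u v

/-- `M` fixes no non-zero vector -/
def NoFix (M : Subgroup (GL ι F)) : Prop := ∀ v : ι → F, (∀ m ∈ M, ac m v = v) → v = 0

/-- `M` is normalised by `G` and contained in it -/
structure NormalIn (G M : Subgroup (GL ι F)) : Prop where
  le : M ≤ G
  conj : ∀ g ∈ G, ∀ m ∈ M, g * m * g⁻¹ ∈ M

lemma actsIrreducibly_iff {M : Subgroup (GL ι F)} : Cfsg.Geo.ActsIrreducibly (Cfsg.Geo.matrixSet M) ↔ Irr M := by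
  refine forall_congr' fun W => imp_congr_left ?_
  constructor
  · intro h m hm w hw
    exact h _ ⟨m, hm, rfl⟩ ⟨w, hw, Matrix.toLin'_apply _ _⟩
  · rintro h _ ⟨m, hm, rfl⟩ _ ⟨w, hw, rfl⟩
    rw [Matrix.toLin'_apply]; exact h m hm w hw

lemma inv_map {G M : Subgroup (GL ι F)} (hn : NormalIn G M) {W : Submodule F (ι → F)} (hW : Inv M W)
    {g : GL ι F} (hg : g ∈ G) : Inv M (W.map (Matrix.toLin' (g : Matrix ι ι F))) := by
  rintro m hm _ ⟨w, hw, rfl⟩
  have := hn.conj g⁻¹ (inv_mem hg) m hm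
  refine ⟨_, hW _ this w hw, ?_⟩
  rw [Matrix.toLin'_apply, Matrix.toLin'_apply]
  show ac g (ac (g⁻¹ * m * g⁻¹⁻¹) w) = ac m (ac g w)
  rw [← ac_mul, ← ac_mul]; congr 1; group

lemma noFix_of_normal {G M : Subgroup (GL ι F)} (hG : Irr G) (hn : NormalIn G M) (hne : M ≠ ⊥) : NoFix M := by
  let W : Submodule F (ι → F) :=
    { carrier := {v | ∀ m ∈ M, ac m v = v}
      add_mem' := fun {a b} ha hb m hm => by
        show (m : Matrix ι ι F) *ᵥ (a + b) = a + b
        rw [Matrix.mulVec_add]; exact congrArg₂ (· + ·) (ha m hm) (hb m hm)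
      zero_mem' := fun m _ => Matrix.mulVec_zero _
      smul_mem' := fun c a ha m hm => by
        show (m : Matrix ι ι F) *ᵥ (c • a) = c • a
        rw [Matrix.mulVec_smul]; exact congrArg (c • ·) (ha m hm) }
  have hW : Inv G W := by
    intro g hg v hv m hm
    have h := hv _ (hn.conj g⁻¹ (inv_mem hg) m hm)
    rw [inv_inv, ac_mul, ac_mul] at h
    have := congrArg (ac g) h
    rwa [ac_ac_inv] at this
  intro v hv
  rcases hG W hW with h | h
  · exact (Submodule.mem_bot F).1 (h ▸ (hv : v ∈ W))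
  · refine absurd (eq_bot_iff.2 fun m hm => Subgroup.mem_bot.2 (eq_one_of_ac fun w => ?_)) hne
    exact (h ▸ Submodule.mem_top : w ∈ W) m hm

/-- the standing hypotheses -/
structure Setup (f : (ι → F) → (ι → F) → F) : Prop where
  symp : Cfsg.Geo.IsSymplecticForm f
  two : (2 : F) = 0
  card : Fintype.card ι = 4

variable {f : (ι → F) → (ι → F) → F}

namespace Setup

variable (h : Setup f)
include h

lemma neg (x : F) : -x = x := by linear_combination (-x) * h.two

lemma symm (u v : ι → F) : f u v = f v u := by rw [h.symp.skew u v, h.neg]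

lemma alt (v : ι → F) : f v v = 0 := h.symp.alternating v

lemma dim : Module.finrank F (ι → F) = 4 := by rw [Module.finrank_fintype_fun_eq_card, h.card]

/-- the bilinear map of the form -/
def bil : LinearMap.BilinForm F (ι → F) :=
  LinearMap.mk₂ F f h.symp.bilinear.add_left (fun c x v => h.symp.bilinear.smul_left c x v)
    h.symp.bilinear.add_right (fun c x v => h.symp.bilinear.smul_right c x v)

lemma bil_apply (u v : ι → F) : h.bil u v = f u v := rfl

lemma refl : h.bil.IsRefl := fun u v huv => by rw [h.bil_apply, h.symm]; exact huv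

lemma nondeg : h.bil.Nondegenerate := by
  refine (LinearMap.IsRefl.nondegenerate_iff_separatingLeft h.refl).2 fun v hv => ?_
  by_contra hne
  obtain ⟨x, hx⟩ := (h.symp.nondegenerate v hne).2
  exact hx (hv x)

lemma mem_orth {W : Submodule F (ι → F)} {v : ι → F} : v ∈ h.bil.orthogonal W ↔ ∀ w ∈ W, f w v = 0 := Iff.rfl

lemma finrank_orth (W : Submodule F (ι → F)) :
    Module.finrank F (h.bil.orthogonal W) = 4 - Module.finrank F W := by
  rw [LinearMap.BilinForm.finrank_orthogonal h.nondeg, h.dim]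

lemma orth_orth (W : Submodule F (ι → F)) : h.bil.orthogonal (h.bil.orthogonal W) = W :=
  LinearMap.BilinForm.orthogonal_orthogonal h.nondeg h.refl W

lemma finrank_le (W : Submodule F (ι → F)) : Module.finrank F W ≤ 4 := h.dim ▸ Submodule.finrank_le W

lemma inv_orth {M : Subgroup (GL ι F)} (hi : Isom f M) {W : Submodule F (ι → F)} (hW : Inv M W) :
    Inv M (h.bil.orthogonal W) := by
  intro m hm v hv
  rw [h.mem_orth] at hv ⊢
  intro w hw
  rw [← ac_ac_inv m w, hi m hm]
  exact hv _ (hW _ (inv_mem hm) w hw)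

lemma map_orth {g : GL ι F} (hg : ∀ u v, f (ac g u) (ac g v) = f u v) (W : Submodule F (ι → F)) :
    (h.bil.orthogonal W).map (Matrix.toLin' (g : Matrix ι ι F)) =
      h.bil.orthogonal (W.map (Matrix.toLin' (g : Matrix ι ι F))) := by
  ext v
  constructor
  · rintro ⟨x, hx, rfl⟩ _ ⟨w, hw, rfl⟩
    show f _ _ = 0
    rw [Matrix.toLin'_apply, Matrix.toLin'_apply, hg]; exact hx w hw
  · intro hv
    refine ⟨ac g⁻¹ v, fun w hw => ?_, by rw [Matrix.toLin'_apply]; exact ac_ac_inv g v⟩
    show f w _ = 0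
    rw [← hg, ac_ac_inv]
    exact hv (ac g w) ⟨w, hw, Matrix.toLin'_apply _ _⟩

lemma exists_sqrt [Finite F] (x : F) : ∃ s : F, s * s = x :=
  Finite.surjective_of_injective (f := fun s : F => s * s) (fun a b hab => by
    have hab' : a * a = b * b := hab
    have : (a - b) * (a - b) = 0 := by linear_combination hab' + (b * b - a * b) * h.two
    exact sub_eq_zero.1 (mul_self_eq_zero.1 this)) x

/-- a line is totally singular -/
lemma le_orth_of_finrank_le_one {W : Submodule F (ι → F)} (hW : Module.finrank F W ≤ 1) :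
    W ≤ h.bil.orthogonal W := by
  obtain ⟨v, hv⟩ := finrank_le_one_iff.1 hW
  intro x hx
  rw [h.mem_orth]
  intro w hw
  obtain ⟨a, ha⟩ := hv ⟨w, hw⟩
  obtain ⟨b, hb⟩ := hv ⟨x, hx⟩
  rw [show w = a • (v : ι → F) from congrArg Subtype.val ha.symm,
    show x = b • (v : ι → F) from congrArg Subtype.val hb.symm, h.symp.bilinear.smul_left,
    h.symp.bilinear.smul_right, h.alt, mul_zero, mul_zero]

/-- a non-trivial reducible isometry group fixes a totally singular subspace or a non-degenerate plane -/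
lemma reducible {M : Subgroup (GL ι F)} (hi : Isom f M) {W : Submodule F (ι → F)} (hW : Inv M W) (h0 : W ≠ ⊥)
    (h1 : W ≠ ⊤) :
    (∃ U, U ≠ ⊥ ∧ Inv M U ∧ U ≤ h.bil.orthogonal U) ∨
      ∃ U, Inv M U ∧ Module.finrank F U = 2 ∧ U ⊓ h.bil.orthogonal U = ⊥ := by
  by_cases hr : W ⊓ h.bil.orthogonal W = ⊥
  · refine Or.inr ⟨W, hW, ?_, hr⟩
    have h2 := h.finrank_orth W
    have h3 := h.finrank_le W
    have hpos : 1 ≤ Module.finrank F W := by
      by_contra hc; exact h0 (Submodule.finrank_eq_zero.1 (by omega))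
    have hlt : Module.finrank F W < 4 := h.dim ▸ Submodule.finrank_lt h1
    by_contra hne
    rcases (show Module.finrank F W = 1 ∨ Module.finrank F W = 3 by omega) with e | e
    · exact h0 (by rw [← hr, inf_eq_left.2 (h.le_orth_of_finrank_le_one (by omega))])
    · have hl := h.le_orth_of_finrank_le_one (W := h.bil.orthogonal W) (by omega)
      rw [h.orth_orth] at hl
      have : h.bil.orthogonal W = ⊥ := by rw [← hr, inf_eq_right.2 hl]
      rw [this, finrank_bot] at h2; omega
  · refine Or.inl ⟨_, hr, fun m hm v hv => ⟨hW m hm v hv.1, h.inv_orth hi hW m hm v hv.2⟩, fun x hx => ?_⟩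
    rw [h.mem_orth]
    exact fun w hw => hx.2 w hw.1

end Setup

/-- `M` fixes a quadratic form polarising to `f` -/
def HasQ (f : (ι → F) → (ι → F) → F) (M : Subgroup (GL ι F)) : Prop :=
  ∃ Q : (ι → F) → F, (∀ (c : F) v, Q (c • v) = c ^ 2 * Q v) ∧ (∀ u v, QuadraticMap.polar Q u v = f u v) ∧
    ∀ m ∈ M, ∀ v, Q (ac m v) = Q v

lemma Setup.quad_unique (h : Setup f) {M : Subgroup (GL ι F)} (hi : Isom f M) (hM : NoFix M)
    {Q Q' : (ι → F) → F} (hQ : ∀ (c : F) v, Q (c • v) = c ^ 2 * Q v) (hQp : ∀ u v, QuadraticMap.polar Q u v = f u v)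
    (hQM : ∀ m ∈ M, ∀ v, Q (ac m v) = Q v)
    (hQ' : ∀ (c : F) v, Q' (c • v) = c ^ 2 * Q' v) (hQ'p : ∀ u v, QuadraticMap.polar Q' u v = f u v)
    (hQ'M : ∀ m ∈ M, ∀ v, Q' (ac m v) = Q' v) : Q = Q' := by
  have hadd : ∀ u v, Q (u + v) - Q' (u + v) = (Q u - Q' u) + (Q v - Q' v) := fun u v => by
    have h1 := (hQp u v).trans (hQ'p u v).symm
    simp only [QuadraticMap.polar] at h1
    linear_combination h1
  let W : Submodule F (ι → F) :=
    { carrier := {v | Q v - Q' v = 0}
      add_mem' := fun {a b} ha hb => by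
        show Q (a + b) - Q' (a + b) = 0
        rw [hadd, ha, hb, add_zero]
      zero_mem' := by
        show Q 0 - Q' 0 = 0
        have h1 := hQ 0 0
        have h2 := hQ' 0 0
        rw [smul_zero] at h1 h2
        rw [h1, h2]; ring
      smul_mem' := fun c a ha => by
        show Q (c • a) - Q' (c • a) = 0
        rw [hQ, hQ', ← mul_sub, ha, mul_zero] }
  suffices hW : W = ⊤ by
    funext v
    exact sub_eq_zero.1 ((hW ▸ Submodule.mem_top : v ∈ W) : Q v - Q' v = 0)
  by_contra hne
  have hne' : h.bil.orthogonal W ≠ ⊥ := by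
    intro hb
    apply hne
    rw [← h.orth_orth W, hb, LinearMap.BilinForm.orthogonal_bot]
  obtain ⟨z, hz, hz0⟩ := Submodule.exists_mem_ne_zero_of_ne_bot hne'
  refine hz0 (hM z fun m hm => ?_)
  by_contra hne2
  obtain ⟨x, hx⟩ := (h.symp.nondegenerate _ (sub_ne_zero.2 hne2)).1
  apply hx
  have hmem : ac m⁻¹ x - x ∈ W := by
    show Q _ - Q' _ = 0
    have h1 := hadd (ac m⁻¹ x - x) x
    rw [sub_add_cancel, hQM _ (inv_mem hm), hQ'M _ (inv_mem hm)] at h1
    linear_combination (-1 : F) * h1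
  have h2 : f (ac m⁻¹ x - x) z = 0 := hz _ hmem
  have h3 : f (ac m⁻¹ x) z = f x (ac m z) := by rw [← hi m hm, ac_ac_inv]
  rw [sub_eq_add_neg, ← neg_one_smul F x, h.symp.bilinear.add_left, h.symp.bilinear.smul_left, h3] at h2
  rw [sub_eq_add_neg, ← neg_one_smul F z, h.symp.bilinear.add_right, h.symp.bilinear.smul_right]
  exact h2

/-- a quadratic form fixed by a normal subgroup without fixed vectors is fixed by the whole group -/
theorem Setup.hasQ_up (h : Setup f) {G M : Subgroup (GL ι F)} (hi : Isom f G) (hn : NormalIn G M) (hM : NoFix M)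
    (hQ : HasQ f M) : HasQ f G := by
  obtain ⟨Q, h1, h2, h3⟩ := hQ
  refine ⟨Q, h1, h2, fun g hg => ?_⟩
  have : (fun v => Q (ac g v)) = Q := by
    refine h.quad_unique (fun m hm => hi m (hn.le hm)) hM (fun c v => ?_) (fun u v => ?_) (fun m hm v => ?_) h1 h2 h3
    · show Q ((g : Matrix ι ι F) *ᵥ (c • v)) = _
      rw [Matrix.mulVec_smul, h1]
    · show Q (ac g (u + v)) - Q (ac g u) - Q (ac g v) = _
      rw [show ac g (u + v) = ac g u + ac g v from Matrix.mulVec_add _ _ _, ← hi g hg u v]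
      exact h2 _ _
    · show Q (ac g (ac m v)) = Q (ac g v)
      rw [← ac_mul, show g * m = (g * m * g⁻¹) * g by group, ac_mul, h3 _ (hn.conj g hg m hm)]
  exact fun v => congrFun this v

/-- two complementary totally singular invariant subspaces give an invariant quadratic form -/
theorem Setup.hasQ_of_ti_pair (h : Setup f) {M : Subgroup (GL ι F)} (hi : Isom f M)
    {U U' : Submodule F (ι → F)} (hU : Inv M U) (hU' : Inv M U') (hc : IsCompl U U')
    (hs : U ≤ h.bil.orthogonal U) (hs' : U' ≤ h.bil.orthogonal U') : HasQ f M := by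
  have hex : ∀ v : ι → F, ∃ a ∈ U, v - a ∈ U' := fun v => by
    obtain ⟨a, ha, b, hb, hab⟩ := Submodule.mem_sup.1 (hc.sup_eq_top ▸ Submodule.mem_top : v ∈ U ⊔ U')
    exact ⟨a, ha, by rw [← hab, add_sub_cancel_left]; exact hb⟩
  choose A hA hA' using hex
  have huniq : ∀ v a, a ∈ U → v - a ∈ U' → A v = a := fun v a ha ha' => by
    refine sub_eq_zero.1 ((Submodule.mem_bot F).1 (hc.inf_eq_bot ▸ ⟨U.sub_mem (hA v) ha, ?_⟩))
    have := U'.sub_mem ha' (hA' v)
    rwa [sub_sub_sub_cancel_left] at this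
  refine ⟨fun v => f (A v) (v - A v), fun c v => ?_, fun u v => ?_, fun m hm v => ?_⟩
  · have e : A (c • v) = c • A v := huniq _ _ (U.smul_mem c (hA v)) (by rw [← smul_sub]; exact U'.smul_mem c (hA' v))
    show f (A (c • v)) (c • v - A (c • v)) = _
    rw [e, ← smul_sub, h.symp.bilinear.smul_left, h.symp.bilinear.smul_right]; ring
  · have e : A (u + v) = A u + A v := huniq _ _ (U.add_mem (hA u) (hA v))
      (by rw [add_sub_add_comm]; exact U'.add_mem (hA' u) (hA' v))
    show f (A (u + v)) (u + v - A (u + v)) - f (A u) (u - A u) - f (A v) (v - A v) = f u v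
    have eu : f u v = f (A u + (u - A u)) (A v + (v - A v)) := by rw [add_sub_cancel, add_sub_cancel]
    rw [eu, e, add_sub_add_comm]
    simp only [h.symp.bilinear.add_left, h.symp.bilinear.add_right]
    rw [show f (A u) (A v) = 0 from hs (hA v) _ (hA u),
      show f (u - A u) (v - A v) = 0 from hs' (hA' v) _ (hA' u), h.symm (u - A u) (A v)]
    ring
  · have e : A (ac m v) = ac m (A v) := huniq _ _ (hU m hm _ (hA v)) (by
      rw [show ac m v - ac m (A v) = ac m (v - A v) from (Matrix.mulVec_sub _ _ _).symm]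
      exact hU' m hm _ (hA' v))
    show f (A (ac m v)) (ac m v - A (ac m v)) = f (A v) (v - A v)
    rw [e, show ac m v - ac m (A v) = ac m (v - A v) from (Matrix.mulVec_sub _ _ _).symm, hi m hm]

end Cfsg.Agent.Lib.SpFourEven
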