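import Cfsg.Agent.Lib.SpFourEven.Reducible

/-! A normal subgroup that is not absolutely irreducible. -/

set_option autoImplicit false
set_option linter.unusedSectionVars false
set_option linter.style.haveILetI false

open scoped Matrix MatrixGroups

namespace Cfsg.Agent.Lib.SpFourEven

variable {ι : Type} [Fintype ι] [DecidableEq ι] {F : Type*} [Field F] [Fintype F]
  {f : (ι → F) → (ι → F) → F}

/-- `G` normalises a self-adjoint quadratic extension field -/
def KOut (f : (ι → F) → (ι → F) → F) (G : Subgroup (GL ι F)) : Prop :=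
  ∃ K : Subalgebra F (Matrix ι ι F), Cfsg.Geo.IsFieldSubalgebra 2 K ∧ Cfsg.Geo.IsSelfAdjointFor f K ∧
    (∀ k ∈ K, ∀ v : ι → F, f (k *ᵥ v) v = 0) ∧ G ≤ Cfsg.Geo.subalgebraNormalizer K

/-- Wedderburn: a finite algebra of matrices in which non-zero elements are units is commutative -/
lemma comm_of_units (C : Subalgebra F (Matrix ι ι F)) [Nontrivial (Matrix ι ι F)]
    (hu : ∀ x ∈ C, x ≠ 0 → IsUnit x) : IsField C := by
  have : NoZeroDivisors C := ⟨fun {a b} hab => by
    by_contra hc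
    push Not at hc
    obtain ⟨ha, hb⟩ := hc
    have ha' : (a : Matrix ι ι F) ≠ 0 := fun h => ha (Subtype.ext h)
    have h0 : (a : Matrix ι ι F) * b = 0 := congrArg Subtype.val hab
    exact hb (Subtype.ext ((hu _ a.2 ha').mul_right_eq_zero.1 h0))⟩
  have : IsDomain C := NoZeroDivisors.to_isDomain _
  exact Finite.isDomain_to_isField C

/-- the count of the elements fixed by the square of the Frobenius map -/
lemma card_fix {C : Type*} [Field C] [Finite C] {m : ℕ} (hm : 2 ≤ m) (hdvd : m - 1 ∣ Nat.card C - 1) :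
    Nat.card {x : C // x ^ m = x} = m := by
  classical
  have hker : Nat.card (powMonoidHom (m - 1) : Cˣ →* Cˣ).ker = m - 1 := by
    rw [IsCyclic.card_powMonoidHom_ker, Nat.card_units, Nat.gcd_eq_right hdvd]
  have hset : {x : C | x ^ m = x} =
      insert 0 (Units.val '' ((powMonoidHom (m - 1) : Cˣ →* Cˣ).ker : Set Cˣ)) := by
    ext x
    simp only [Set.mem_ofPred_eq, Set.mem_insert_iff, Set.mem_image, SetLike.mem_coe, MonoidHom.mem_ker,
      powMonoidHom_apply]
    constructor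
    · intro hx
      by_cases h0 : x = 0
      · exact Or.inl h0
      · refine Or.inr ⟨Units.mk0 x h0, Units.ext ?_, rfl⟩
        rw [Units.val_pow_eq_pow_val, Units.val_mk0, Units.val_one]
        refine mul_right_cancel₀ h0 ?_
        rw [← pow_succ, Nat.sub_add_cancel (by omega), hx, one_mul]
    · rintro (rfl | ⟨u, hu, rfl⟩)
      · exact zero_pow (by omega)
      · calc (u : C) ^ m = (u : C) ^ (m - 1) * u := by rw [← pow_succ, Nat.sub_add_cancel (by omega)]
          _ = u := by rw [← Units.val_pow_eq_pow_val, hu, Units.val_one, one_mul]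
  rw [show Nat.card {x : C // x ^ m = x} = Set.ncard {x : C | x ^ m = x} from Nat.card_coe_set_eq _, hset,
    Set.ncard_insert_of_notMem (by rintro ⟨u, -, hu⟩; exact u.ne_zero hu),
    Set.ncard_image_of_injective _ Units.val_injective, ← Nat.card_coe_set_eq]
  show Nat.card (powMonoidHom (m - 1) : Cˣ →* Cˣ).ker + 1 = m
  rw [hker]; omega

lemma finrank_two_or_four (hcard : Fintype.card ι = 4) (C : Subalgebra F (Matrix ι ι F)) (hC : IsField C)
    (h1 : 2 ≤ Module.finrank F C) : Module.finrank F C = 2 ∨ Module.finrank F C = 4 := by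
  classical
  haveI : Nontrivial C := hC.nontrivial
  haveI : Nonempty ι := Fintype.card_pos_iff.1 (by omega)
  obtain ⟨v0, hv0⟩ := exists_ne (0 : ι → F)
  let φ : (ι → F) → (C →ₗ[F] (ι → F)) := fun v =>
    { toFun := fun x => (x : Matrix ι ι F) *ᵥ v
      map_add' := fun x y => Matrix.add_mulVec _ _ _
      map_smul' := fun c x => Matrix.smul_mulVec _ _ _ }
  have hinj : ∀ v : ι → F, v ≠ 0 → Function.Injective (φ v) := fun v hv =>
    (injective_iff_map_eq_zero _).2 fun x hx => by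
      by_contra h0
      obtain ⟨y, hy⟩ := hC.mul_inv_cancel h0
      rw [hC.mul_comm] at hy
      apply hv
      calc v = ((y * x : C) : Matrix ι ι F) *ᵥ v := by rw [hy]; simp
        _ = (y : Matrix ι ι F) *ᵥ ((x : Matrix ι ι F) *ᵥ v) := by rw [Matrix.mulVec_mulVec]; rfl
        _ = 0 := by rw [show (x : Matrix ι ι F) *ᵥ v = 0 from hx, Matrix.mulVec_zero]
  have hV : Module.finrank F (ι → F) = 4 := by rw [Module.finrank_fintype_fun_eq_card, hcard]
  have hr : ∀ v : ι → F, v ≠ 0 → Module.finrank F (LinearMap.range (φ v)) = Module.finrank F C := fun v hv =>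
    LinearMap.finrank_range_of_inj (hinj v hv)
  have hle : Module.finrank F C ≤ 4 := by
    rw [← hr v0 hv0]; exact (Submodule.finrank_le _).trans hV.le
  by_contra hne
  have h3 : Module.finrank F C = 3 := by omega
  obtain ⟨v1, hv1⟩ : ∃ v1, v1 ∉ LinearMap.range (φ v0) := by
    by_contra hc
    push Not at hc
    have := hr v0 hv0
    rw [(eq_top_iff.2 fun x _ => hc x : LinearMap.range (φ v0) = ⊤), finrank_top, hV, h3] at this
    omega
  have hv1' : v1 ≠ 0 := fun e => hv1 (e ▸ zero_mem _)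
  have h4 := Submodule.finrank_sup_add_finrank_inf_eq (LinearMap.range (φ v0)) (LinearMap.range (φ v1))
  rw [hr v0 hv0, hr v1 hv1', h3] at h4
  have h5 : Module.finrank F ↥(LinearMap.range (φ v0) ⊔ LinearMap.range (φ v1)) ≤ 4 :=
    (Submodule.finrank_le _).trans hV.le
  obtain ⟨w, ⟨⟨x, hx⟩, ⟨y, hy⟩⟩, hw⟩ := Submodule.exists_mem_ne_zero_of_ne_bot
    (fun hb => by rw [hb, finrank_bot] at h4; omega : LinearMap.range (φ v0) ⊓ LinearMap.range (φ v1) ≠ ⊥)
  have hy0 : y ≠ 0 := fun e => hw (by rw [← hy, e, map_zero])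
  obtain ⟨z, hz⟩ := hC.mul_inv_cancel hy0
  rw [hC.mul_comm] at hz
  refine hv1 ⟨z * x, ?_⟩
  show ((z * x : C) : Matrix ι ι F) *ᵥ v0 = v1
  have hxy : (x : Matrix ι ι F) *ᵥ v0 = (y : Matrix ι ι F) *ᵥ v1 := hx.trans hy.symm
  calc ((z * x : C) : Matrix ι ι F) *ᵥ v0 = (z : Matrix ι ι F) *ᵥ ((x : Matrix ι ι F) *ᵥ v0) := by
        rw [Matrix.mulVec_mulVec]; rfl
    _ = ((z * y : C) : Matrix ι ι F) *ᵥ v1 := by rw [hxy, Matrix.mulVec_mulVec]; rfl
    _ = v1 := by rw [hz]; simp

namespace Setup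

variable (h : Setup f)
include h

lemma charP_two : CharP F 2 := (CharP.charP_iff_prime_eq_zero Nat.prime_two).2 h.two

lemma exists_adjoint (x : Matrix ι ι F) : ∃ x' : Matrix ι ι F, ∀ u v, f (x *ᵥ u) v = f u (x' *ᵥ v) := by
  refine ⟨LinearMap.toMatrix' (h.bil.leftAdjointOfNondegenerate h.nondeg (Matrix.toLin' x)), fun u v => ?_⟩
  have h1 := LinearMap.BilinForm.isAdjointPairLeftAdjointOfNondegenerate h.bil h.nondeg (Matrix.toLin' x) v u
  rw [Matrix.toLin'_apply] at h1
  rw [LinearMap.toMatrix'_mulVec, h.symm u, h.symm (x *ᵥ u)]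
  exact h1.symm

lemma adjoint_unique {x' y' : Matrix ι ι F} (hxy : ∀ u v, f u (x' *ᵥ v) = f u (y' *ᵥ v)) : x' = y' := by
  refine Matrix.toLin'.injective (LinearMap.ext fun v => ?_)
  rw [Matrix.toLin'_apply, Matrix.toLin'_apply]
  by_contra hne
  obtain ⟨u, hu⟩ := (h.symp.nondegenerate _ (sub_ne_zero.2 hne)).1
  apply hu
  rw [sub_eq_add_neg, ← neg_one_smul F (y' *ᵥ v), h.symp.bilinear.add_right, h.symp.bilinear.smul_right, hxy]
  ring

/-- the irreducible case with a non-scalar commutant -/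
theorem commutant_out {G M : Subgroup (GL ι F)} (hi : Isom f G) (hn : NormalIn G M) (hirr : Irr M)
    {k0 : Matrix ι ι F} (hk0 : ∀ s ∈ Cfsg.Geo.matrixSet M, k0 * s = s * k0)
    (hk0' : ∀ c : F, k0 ≠ c • (1 : Matrix ι ι F)) : HasQ f M ∨ KOut f G := by
  classical
  haveI := h.charP_two
  haveI : Fact (Nat.Prime 2) := ⟨Nat.prime_two⟩
  haveI : Nonempty ι := Fintype.card_pos_iff.1 (by rw [h.card]; norm_num)
  set C := Subalgebra.centralizer F (Cfsg.Geo.matrixSet M) with hCdef
  have hCmem : ∀ {x}, x ∈ C ↔ ∀ m ∈ M, (m : Matrix ι ι F) * x = x * m := fun {x} => by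
    rw [hCdef, Subalgebra.mem_centralizer_iff]
    exact ⟨fun hx m hm => hx _ ⟨m, hm, rfl⟩, by rintro hx _ ⟨m, hm, rfl⟩; exact hx m hm⟩
  have hu : ∀ x ∈ C, x ≠ 0 → IsUnit x := by
    intro x hx hx0
    rw [← Matrix.mulVec_injective_iff_isUnit]
    refine (injective_iff_map_eq_zero (Matrix.toLin' x)).2 fun v hv => ?_
    rcases hirr (LinearMap.ker (Matrix.toLin' x)) (fun m hm w hw => by
      rw [LinearMap.mem_ker, Matrix.toLin'_apply] at hw ⊢
      show x *ᵥ ((m : Matrix ι ι F) *ᵥ w) = 0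
      rw [Matrix.mulVec_mulVec, ← hCmem.1 hx m hm, ← Matrix.mulVec_mulVec, hw, Matrix.mulVec_zero]) with e | e
    · exact (Submodule.mem_bot F).1 (e ▸ LinearMap.mem_ker.2 hv)
    · exact absurd (Matrix.toLin'.map_eq_zero_iff.1 (LinearMap.ker_eq_top.1 e)) hx0
  have hF := comm_of_units C hu
  have hcomm : ∀ x ∈ C, ∀ y ∈ C, x * y = y * x := fun x hx y hy =>
    congrArg Subtype.val (hF.mul_comm ⟨x, hx⟩ ⟨y, hy⟩)
  obtain ⟨n, -, hq⟩ := FiniteField.card F 2
  set m : ℕ := Fintype.card F ^ 2 with hm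
  have hm2 : m = 2 ^ ((n : ℕ) * 2) := by rw [hm, hq, pow_mul]
  have hq2 : 2 ≤ Fintype.card F := Fintype.one_lt_card
  have hm4 : 4 ≤ m := by rw [hm]; nlinarith
  let K : Subalgebra F (Matrix ι ι F) :=
    { carrier := {x | x ∈ C ∧ x ^ m = x}
      mul_mem' := fun {x y} hx hy => ⟨mul_mem hx.1 hy.1, by
        rw [(show Commute x y from hcomm x hx.1 y hy.1).mul_pow, hx.2, hy.2]⟩
      add_mem' := fun {x y} hx hy => ⟨add_mem hx.1 hy.1, by
        rw [hm2, add_pow_char_pow_of_commute 2 _ (show Commute x y from hcomm x hx.1 y hy.1), ← hm2, hx.2, hy.2]⟩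
      algebraMap_mem' := fun c => ⟨C.algebraMap_mem c, by
        rw [← map_pow, hm, pow_two, pow_mul, FiniteField.pow_card, FiniteField.pow_card]⟩ }
  have hKC : ∀ {x}, x ∈ K → x ∈ C := fun hx => hx.1
  have hrank : Module.finrank F K = 2 := by
    have h2 : 2 ≤ Module.finrank F C := by
      by_contra hlt
      push Not at hlt
      haveI : Nontrivial C := hF.nontrivial
      have h1 : Module.finrank F C = 1 := by
        have : 0 < Module.finrank F C := Module.finrank_pos
        omega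
      have hbot : C = ⊥ := Subalgebra.eq_bot_of_finrank_one h1
      have hk : k0 ∈ C := hCmem.2 fun g hg => (hk0 _ ⟨g, hg, rfl⟩).symm
      rw [hbot, Algebra.mem_bot] at hk
      obtain ⟨c, hc⟩ := hk
      exact hk0' c (by rw [← hc, Algebra.algebraMap_eq_smul_one])
    have hd := finrank_two_or_four h.card C hF h2
    have hcC : Nat.card C = Fintype.card F ^ Module.finrank F C := by
      rw [Module.natCard_eq_pow_finrank (K := F), Nat.card_eq_fintype_card]
    have hdvd : m - 1 ∣ Nat.card C - 1 := by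
      rw [hcC]
      rcases hd with e | e <;> rw [e, hm]
      rw [show (4 : ℕ) = 2 * 2 from rfl, pow_mul]
      simpa using Nat.sub_dvd_pow_sub_pow (Fintype.card F ^ 2) 1 2
    have e : K ≃ {x : C // x ^ m = x} :=
      { toFun := fun x => ⟨⟨x.1, x.2.1⟩, Subtype.ext x.2.2⟩
        invFun := fun x => ⟨x.1.1, x.1.2, congrArg Subtype.val x.2⟩
        left_inv := fun x => rfl
        right_inv := fun x => rfl }
    have hcard : Nat.card K = m := by
      rw [Nat.card_congr e]
      letI : Field C := hF.toField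
      exact card_fix (by omega) hdvd
    rw [Module.natCard_eq_pow_finrank (K := F), Nat.card_eq_fintype_card, hm] at hcard
    exact Nat.pow_right_injective hq2 hcard
  have hKfield : Cfsg.Geo.IsFieldSubalgebra 2 K := by
    refine ⟨fun x hx y hy => hcomm x (hKC hx) y (hKC hy), fun x hx hx0 => ⟨x ^ (m - 2), K.pow_mem hx _, ?_⟩, hrank⟩
    refine (hu x (hKC hx) hx0).mul_left_cancel ?_
    rw [mul_one, ← pow_succ', ← pow_succ', show m - 2 + 1 + 1 = m by omega, hx.2]
  have hiM : Isom f M := fun g hg => hi g (hn.le hg)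
  choose adj hadj using h.exists_adjoint
  have hadjC : ∀ x ∈ C, adj x ∈ C := fun x hx => hCmem.2 fun g hg => h.adjoint_unique fun u v => by
    rw [← Matrix.mulVec_mulVec, ← Matrix.mulVec_mulVec, ← hadj]
    show f u (ac g (adj x *ᵥ v)) = f (x *ᵥ u) (ac g v)
    conv_lhs => rw [← ac_ac_inv g u, hiM g hg, ← hadj]
    conv_rhs => rw [← ac_ac_inv g (x *ᵥ u), hiM g hg]
    show f (x *ᵥ (((g⁻¹ : GL ι F) : Matrix ι ι F) *ᵥ u)) v = f (((g⁻¹ : GL ι F) : Matrix ι ι F) *ᵥ (x *ᵥ u)) v
    rw [Matrix.mulVec_mulVec, Matrix.mulVec_mulVec, hCmem.1 hx _ (inv_mem hg)]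
  have hpow : ∀ x (j : ℕ), adj (x ^ j) = adj x ^ j := by
    intro x j
    induction j with
    | zero => exact h.adjoint_unique fun u v => by rw [← hadj]; simp
    | succ j ih =>
      refine h.adjoint_unique fun u v => ?_
      rw [← hadj, pow_succ', ← Matrix.mulVec_mulVec, hadj, hadj, ih, Matrix.mulVec_mulVec, ← pow_succ]
  have hadjK : ∀ x ∈ K, adj x ∈ K := fun x hx => ⟨hadjC x hx.1, by rw [← hpow, hx.2]⟩
  obtain ⟨k, hkK, hk⟩ : ∃ k ∈ K, ∀ c : F, k ≠ c • (1 : Matrix ι ι F) := by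
    by_contra hc
    push Not at hc
    have hb : K = ⊥ := eq_bot_iff.2 fun x hx => by
      obtain ⟨c, rfl⟩ := hc x hx
      exact Algebra.mem_bot.2 ⟨c, Algebra.algebraMap_eq_smul_one c⟩
    rw [hb, Subalgebra.finrank_bot] at hrank
    omega
  have hcoef : ∀ {a b : F}, a • (1 : Matrix ι ι F) + b • k = 0 → a = 0 ∧ b = 0 := by
    intro a b hab
    by_cases hb : b = 0
    · rw [hb, zero_smul, add_zero] at hab
      exact ⟨(smul_eq_zero.1 hab).resolve_right one_ne_zero, hb⟩
    · refine absurd ?_ (hk (-(b⁻¹ * a)))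
      have hb' : b • k = -(a • (1 : Matrix ι ι F)) := eq_neg_of_add_eq_zero_right hab
      rw [show k = b⁻¹ • (b • k) by rw [smul_smul, inv_mul_cancel₀ hb, one_smul], hb', smul_neg, smul_smul, neg_smul]
  have hli : LinearIndependent F ![(⟨1, K.one_mem⟩ : K), ⟨k, hkK⟩] :=
    LinearIndependent.pair_iff.2 fun a b hab => hcoef (congrArg Subtype.val hab)
  have hbasis : ∀ x ∈ K, ∃ a b : F, x = a • (1 : Matrix ι ι F) + b • k := by
    intro x hx
    have htop := hli.span_eq_top_of_card_eq_finrank' (by rw [Fintype.card_fin, hrank])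
    rw [Matrix.range_cons_cons_empty] at htop
    obtain ⟨a, b, hab⟩ := Submodule.mem_span_pair.1 (htop ▸ Submodule.mem_top : (⟨x, hx⟩ : K) ∈ Submodule.span F _)
    exact ⟨a, b, (congrArg Subtype.val hab).symm⟩
  obtain ⟨a, b, hab⟩ := hbasis _ (hadjK k hkK)
  have hlin : ∀ (a b : F) u v, f ((a • (1 : Matrix ι ι F) + b • k) *ᵥ u) v = a * f u v + b * f (k *ᵥ u) v := by
    intro a b u v
    rw [Matrix.add_mulVec, Matrix.smul_mulVec, Matrix.smul_mulVec, Matrix.one_mulVec, h.symp.bilinear.add_left,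
      h.symp.bilinear.smul_left, h.symp.bilinear.smul_left]
  have hlin' : ∀ (a b : F) u v, f u ((a • (1 : Matrix ι ι F) + b • k) *ᵥ v) = a * f u v + b * f u (k *ᵥ v) := by
    intro a b u v
    rw [Matrix.add_mulVec, Matrix.smul_mulVec, Matrix.smul_mulVec, Matrix.one_mulVec, h.symp.bilinear.add_right,
      h.symp.bilinear.smul_right, h.symp.bilinear.smul_right]
  have hk' : ∀ u v, f (k *ᵥ u) v = a * f u v + b * f u (k *ᵥ v) := fun u v => by rw [hadj, hab, hlin']
  obtain ⟨-, hb⟩ : a + b * a = 0 ∧ b * b - 1 = 0 := by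
    refine hcoef (h.adjoint_unique (x' := (a + b * a) • (1 : Matrix ι ι F) + (b * b - 1) • k) (y' := 0) fun u v => ?_)
    rw [hlin', Matrix.zero_mulVec, ← zero_smul F (0 : ι → F), h.symp.bilinear.smul_right, zero_mul]
    have e1 := hk' u v
    have e2 := hk' v u
    rw [h.symm (k *ᵥ v) u, h.symm v (k *ᵥ u), h.symm v u] at e2
    linear_combination -b * e1 - e2
  have hb1 : b = 1 := sub_eq_zero.1 (mul_self_eq_zero.1
    (by linear_combination hb + (1 - b) * h.two : (b - 1) * (b - 1) = 0))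
  subst hb1
  by_cases ha : a = 0
  · subst ha
    refine Or.inr ⟨K, hKfield, ?_, ?_, ?_⟩
    · intro x hx u v
      obtain ⟨c, d, rfl⟩ := hbasis x hx
      rw [hlin, hlin', hk' u v]; ring
    · intro x hx v
      set l := x ^ (m / 2) with hl
      have hll : l * l = x := by
        rw [hl, ← pow_add]
        have : m / 2 + m / 2 = m := by
          have : 2 ∣ m := by rw [hm2]; exact dvd_pow_self 2 (by simp)
          omega
        rw [this, hx.2]
      obtain ⟨c, d, hcd⟩ := hbasis l (K.pow_mem hx _)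
      rw [← hll, ← Matrix.mulVec_mulVec]
      have : f (l *ᵥ (l *ᵥ v)) v = f (l *ᵥ v) (l *ᵥ v) := by
        rw [hcd, hlin, hlin', hk']; ring
      rw [this, h.alt]
    · intro g hg
      have hC1 : ∀ g ∈ G, ∀ x ∈ C, (g : Matrix ι ι F) * x * ((g⁻¹ : GL ι F) : Matrix ι ι F) ∈ C := by
        intro g hg x hx
        refine hCmem.2 fun j hj => ?_
        have h1 := hCmem.1 hx _ (hn.conj g⁻¹ (inv_mem hg) j hj)
        rw [inv_inv, Units.val_mul, Units.val_mul] at h1
        have h2 := congrArg (fun y => (g : Matrix ι ι F) * y * ((g⁻¹ : GL ι F) : Matrix ι ι F)) h1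
        simpa only [← mul_assoc, Units.mul_inv, one_mul, Units.mul_inv_cancel_right] using h2
      have hK1 : ∀ g ∈ G, ∀ x ∈ K, (g : Matrix ι ι F) * x * ((g⁻¹ : GL ι F) : Matrix ι ι F) ∈ K := by
        intro g hg x hx
        refine ⟨hC1 g hg x hx.1, ?_⟩
        rw [Units.conj_pow, hx.2]
      intro x
      refine ⟨hK1 g hg x, fun hx => ?_⟩
      have := hK1 g⁻¹ (inv_mem hg) _ hx
      simpa only [inv_inv, ← mul_assoc, Units.inv_mul, one_mul, Units.inv_mul_cancel_right] using this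
  · refine Or.inl ⟨fun v => f ((a⁻¹ • k) *ᵥ v) v, fun c v => ?_, fun u v => ?_, fun g hg v => ?_⟩
    · show f ((a⁻¹ • k) *ᵥ (c • v)) (c • v) = _
      rw [Matrix.mulVec_smul, h.symp.bilinear.smul_left, h.symp.bilinear.smul_right]; ring
    · show f ((a⁻¹ • k) *ᵥ (u + v)) (u + v) - f ((a⁻¹ • k) *ᵥ u) u - f ((a⁻¹ • k) *ᵥ v) v = f u v
      rw [Matrix.mulVec_add]
      simp only [h.symp.bilinear.add_left, h.symp.bilinear.add_right, Matrix.smul_mulVec, h.symp.bilinear.smul_left]
      rw [hk' u v, h.symm (k *ᵥ v) u]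
      field_simp
      linear_combination (f u (k *ᵥ v)) * h.two
    · show f ((a⁻¹ • k) *ᵥ ac g v) (ac g v) = f ((a⁻¹ • k) *ᵥ v) v
      rw [show (a⁻¹ • k) *ᵥ ac g v = ac g ((a⁻¹ • k) *ᵥ v) by
        show (a⁻¹ • k) *ᵥ ((g : Matrix ι ι F) *ᵥ v) = (g : Matrix ι ι F) *ᵥ _
        rw [Matrix.mulVec_mulVec, Matrix.mulVec_mulVec, Matrix.smul_mul, Matrix.mul_smul, hCmem.1 (hKC hkK) g hg], hiM g hg]

/-- a normal subgroup that is not absolutely irreducible -/
theorem not_abs_out {G M : Subgroup (GL ι F)} (hi : Isom f G) (hG : Irr G) (hn : NormalIn G M) (hne : M ≠ ⊥)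
    (hab : ¬ Cfsg.Geo.ActsAbsolutelyIrreducibly (Cfsg.Geo.matrixSet M)) : HasQ f G ∨ DecOut h G ∨ KOut f G := by
  have up : HasQ f M → HasQ f G := h.hasQ_up hi hn (noFix_of_normal hG hn hne)
  by_cases hirr : Irr M
  · obtain ⟨k0, hk0, hk0'⟩ : ∃ k0 : Matrix ι ι F, (∀ s ∈ Cfsg.Geo.matrixSet M, k0 * s = s * k0) ∧
        ∀ c : F, k0 ≠ c • (1 : Matrix ι ι F) := by
      by_contra hc
      refine hab ⟨actsIrreducibly_iff.2 hirr, fun x hx => ?_⟩
      by_contra hx'
      exact hc ⟨x, hx, fun c e => hx' ⟨c, e⟩⟩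
    exact (h.commutant_out hi hn hirr hk0 hk0').imp up Or.inr
  · exact (h.reducible_out hi hG hn hirr).imp up Or.inl

end Setup

end Cfsg.Agent.Lib.SpFourEven
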