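import Cfsg.Agent.Lib.SpFourEven.Simple

/-! An irreducible isometry group of a symplectic four-space in characteristic two. -/

set_option autoImplicit false
set_option linter.unusedSectionVars false
set_option linter.style.haveILetI false

open scoped Matrix MatrixGroups

namespace Cfsg.Agent.Lib.SpFourEven

variable {ι : Type} [Fintype ι] [DecidableEq ι] {F : Type*} [Field F] [Fintype F]
  {f : (ι → F) → (ι → F) → F}

lemma exists_minimal_normalIn {G : Subgroup (GL ι F)} (hG : G ≠ ⊥) :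
    ∃ N, NormalIn G N ∧ N ≠ ⊥ ∧ ∀ M, NormalIn G M → M ≤ N → M = ⊥ ∨ M = N := by
  obtain ⟨N, ⟨hN, hne⟩, hmin⟩ := exists_minimal_of_wellFoundedLT
    (fun N : Subgroup (GL ι F) => NormalIn G N ∧ N ≠ ⊥)
    ⟨G, ⟨le_rfl, fun g hg m hm => mul_mem (mul_mem hg hm) (inv_mem hg)⟩, hG⟩
  refine ⟨N, hN, hne, fun M hM hle => ?_⟩
  by_cases h0 : M = ⊥
  · exact Or.inl h0
  · exact Or.inr (le_antisymm hle (hmin ⟨hM, h0⟩ hle))

lemma normalIn_commutator {G N : Subgroup (GL ι F)} (hn : NormalIn G N) : NormalIn G ⁅N, N⁆ := by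
  have hle : ⁅N, N⁆ ≤ N := Subgroup.commutator_le.2 fun a ha b hb =>
    mul_mem (mul_mem (mul_mem ha hb) (inv_mem ha)) (inv_mem hb)
  refine ⟨hle.trans hn.le, fun g hg m hm => ?_⟩
  have h1 : ⁅N, N⁆.map (MulAut.conj g).toMonoidHom ≤ ⁅N, N⁆ := by
    rw [Subgroup.map_commutator]
    refine Subgroup.commutator_mono ?_ ?_ <;>
      (rintro _ ⟨x, hx, rfl⟩; exact hn.conj g hg x hx)
  exact h1 ⟨m, hm, rfl⟩

lemma conj_normalIn {H N T : Subgroup (GL ι F)} (hn : NormalIn H N) (hT : NormalIn N T) {g : GL ι F} (hg : g ∈ H) :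
    NormalIn N (T.map (MulAut.conj g).toMonoidHom) := by
  refine ⟨?_, ?_⟩
  · rintro _ ⟨t, ht, rfl⟩
    exact hn.conj g hg t (hT.le ht)
  · rintro x hx _ ⟨t, ht, rfl⟩
    have hx' : g⁻¹ * x * g ∈ N := by
      have := hn.conj g⁻¹ (inv_mem hg) x hx
      rwa [inv_inv] at this
    refine ⟨g⁻¹ * x * g * t * (g⁻¹ * x * g)⁻¹, hT.conj _ hx' t ht, ?_⟩
    show g * _ * g⁻¹ = x * (g * t * g⁻¹) * x⁻¹
    group

namespace Setup

variable (h : Setup f)
include h

lemma dec_false {N : Subgroup (GL ι F)} (hi : Isom f N) (hirr : Irr N) (hperf : ⁅N, N⁆ = N) : ¬ DecOut h N := by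
  rintro ⟨U, hU2, -, hU⟩
  set Uo := h.bil.orthogonal U with hUo
  have htl : ∀ (x y : GL ι F) (W : Submodule F (ι → F)), W.map (Matrix.toLin' ((x * y : GL ι F) : Matrix ι ι F)) =
      (W.map (Matrix.toLin' (y : Matrix ι ι F))).map (Matrix.toLin' (x : Matrix ι ι F)) := fun x y W => by
    rw [Units.val_mul, Matrix.toLin'_mul, Submodule.map_comp]
  have hid : ∀ (a : GL ι F) (W : Submodule F (ι → F)),
      (W.map (Matrix.toLin' (a : Matrix ι ι F))).map (Matrix.toLin' ((a⁻¹ : GL ι F) : Matrix ι ι F)) = W := fun a W => by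
    rw [← htl, inv_mul_cancel, Units.val_one, Matrix.toLin'_one, Submodule.map_id]
  have hcase : ∀ a ∈ N,
      (U.map (Matrix.toLin' (a : Matrix ι ι F)) = U ∧ Uo.map (Matrix.toLin' (a : Matrix ι ι F)) = Uo ∧
        U.map (Matrix.toLin' ((a⁻¹ : GL ι F) : Matrix ι ι F)) = U ∧
        Uo.map (Matrix.toLin' ((a⁻¹ : GL ι F) : Matrix ι ι F)) = Uo) ∨
      (U.map (Matrix.toLin' (a : Matrix ι ι F)) = Uo ∧ Uo.map (Matrix.toLin' (a : Matrix ι ι F)) = U ∧
        U.map (Matrix.toLin' ((a⁻¹ : GL ι F) : Matrix ι ι F)) = Uo ∧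
        Uo.map (Matrix.toLin' ((a⁻¹ : GL ι F) : Matrix ι ι F)) = U) := by
    intro a ha
    have ho : Uo.map (Matrix.toLin' (a : Matrix ι ι F)) = h.bil.orthogonal (U.map (Matrix.toLin' (a : Matrix ι ι F))) :=
      h.map_orth (fun u v => hi a ha u v) U
    have h1 := hid a U
    have h2 := hid a Uo
    rcases hU a ha with e | e
    · rw [e, ← hUo] at ho
      rw [e] at h1
      rw [ho] at h2
      exact Or.inl ⟨e, ho, h1, h2⟩
    · rw [e, hUo, h.orth_orth, ← hUo] at ho
      rw [e] at h1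
      rw [ho] at h2
      exact Or.inr ⟨e, ho, h2, h1⟩
  have hfix : ∀ g ∈ ⁅N, N⁆, U.map (Matrix.toLin' (g : Matrix ι ι F)) = U := by
    intro g hg
    rw [Subgroup.commutator_def] at hg
    induction hg using Subgroup.closure_induction with
    | mem x hx =>
      obtain ⟨a, ha, b, hb, rfl⟩ := hx
      rw [commutatorElement_def, htl, htl, htl]
      rcases hcase a ha with ⟨a1, a2, a3, a4⟩ | ⟨a1, a2, a3, a4⟩ <;>
        rcases hcase b hb with ⟨b1, b2, b3, b4⟩ | ⟨b1, b2, b3, b4⟩ <;>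
          simp only [a1, a2, a3, a4, b1, b2, b3, b4]
    | one => rw [Units.val_one, Matrix.toLin'_one, Submodule.map_id]
    | mul x y _ _ hx hy => rw [htl, hy, hx]
    | inv x _ hx =>
      have := hid x U
      rwa [hx] at this
  rcases hirr U (fun m hm v hv => hfix m (hperf.symm ▸ hm) ▸ ⟨v, hv, Matrix.toLin'_apply _ _⟩) with e | e
  · rw [e, finrank_bot] at hU2; omega
  · rw [e, finrank_top, h.dim] at hU2; omega

lemma kout_false {N : Subgroup (GL ι F)} (hab : Cfsg.Geo.ActsAbsolutelyIrreducibly (Cfsg.Geo.matrixSet N))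
    (hperf : ⁅N, N⁆ = N) : ¬ KOut f N := by
  rintro ⟨K, hK, -, -, hN⟩
  haveI : Nonempty ι := Fintype.card_pos_iff.1 (by rw [h.card]; norm_num)
  haveI := h.charP_two
  obtain ⟨k, hkK, hk⟩ : ∃ k ∈ K, ∀ c : F, k ≠ c • (1 : Matrix ι ι F) := by
    by_contra hc
    push Not at hc
    have hb : K = ⊥ := eq_bot_iff.2 fun x hx => by
      obtain ⟨c, rfl⟩ := hc x hx
      exact Algebra.mem_bot.2 ⟨c, Algebra.algebraMap_eq_smul_one c⟩
    have := hK.finrank_eq
    rw [hb, Subalgebra.finrank_bot] at this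
    omega
  have hcoef : ∀ {a b : F}, a • (1 : Matrix ι ι F) + b • k = 0 → a = 0 ∧ b = 0 := by
    intro a b hab
    by_cases hb : b = 0
    · rw [hb, zero_smul, add_zero] at hab
      exact ⟨(smul_eq_zero.1 hab).resolve_right one_ne_zero, hb⟩
    · refine absurd ?_ (hk (-(b⁻¹ * a)))
      have hb' : b • k = -(a • (1 : Matrix ι ι F)) := eq_neg_of_add_eq_zero_right hab
      rw [show k = b⁻¹ • (b • k) by rw [smul_smul, inv_mul_cancel₀ hb, one_smul], hb', smul_neg, smul_smul, neg_smul]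
  have hli : LinearIndependent F ![(⟨1, K.one_mem⟩ : K), ⟨k, hkK⟩] :=
    LinearIndependent.pair_iff.2 fun a b hab => hcoef (congrArg Subtype.val hab)
  have hbasis : ∀ x ∈ K, ∃ a b : F, x = a • (1 : Matrix ι ι F) + b • k := by
    intro x hx
    have htop := hli.span_eq_top_of_card_eq_finrank' (by rw [Fintype.card_fin, hK.finrank_eq])
    rw [Matrix.range_cons_cons_empty] at htop
    obtain ⟨a, b, hab⟩ := Submodule.mem_span_pair.1 (htop ▸ Submodule.mem_top : (⟨x, hx⟩ : K) ∈ Submodule.span F _)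
    exact ⟨a, b, (congrArg Subtype.val hab).symm⟩
  obtain ⟨d, t, hkk⟩ := hbasis (k * k) (mul_mem hkK hkK)
  have hδ : ∀ a ∈ N, ∃ δ : F, (a : Matrix ι ι F) * k = (k + δ • 1) * (a : Matrix ι ι F) ∧
      ((a⁻¹ : GL ι F) : Matrix ι ι F) * k = (k + δ • 1) * ((a⁻¹ : GL ι F) : Matrix ι ι F) := by
    intro a ha
    set k' := (a : Matrix ι ι F) * k * ((a⁻¹ : GL ι F) : Matrix ι ι F) with hk'
    have hk'K : k' ∈ K := (hN ha k).1 hkK
    have hk'k' : k' * k' = d • 1 + t • k' := by
      rw [hk', show (a : Matrix ι ι F) * k * ((a⁻¹ : GL ι F) : Matrix ι ι F) *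
          ((a : Matrix ι ι F) * k * ((a⁻¹ : GL ι F) : Matrix ι ι F)) =
          (a : Matrix ι ι F) * (k * k) * ((a⁻¹ : GL ι F) : Matrix ι ι F) by simp [mul_assoc],
        hkk, mul_add, add_mul, Matrix.mul_smul, Matrix.mul_smul, Matrix.mul_one, Matrix.smul_mul, Matrix.smul_mul,
        Units.mul_inv]
    have hzero : (k' - k) * (k' + k - t • 1) = 0 := by
      rw [sub_mul, mul_sub, mul_sub, mul_add, mul_add, hK.comm k hkK k' hk'K, hk'k', hkk,
        Matrix.mul_smul, Matrix.mul_smul, Matrix.mul_one, Matrix.mul_one]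
      abel
    obtain ⟨δ, hδ⟩ : ∃ δ : F, k' = k + δ • 1 := by
      by_cases he : k' - k = 0
      · exact ⟨0, by rw [zero_smul, add_zero]; exact sub_eq_zero.1 he⟩
      · obtain ⟨y, hy, hxy⟩ := hK.inv _ (sub_mem hk'K hkK) he
        refine ⟨t, ?_⟩
        have h2 : k' + k - t • 1 = 0 := by
          calc k' + k - t • 1 = ((k' - k) * y) * (k' + k - t • 1) := by rw [hxy, one_mul]
            _ = y * ((k' - k) * (k' + k - t • 1)) := by
              rw [hK.comm (k' - k) (sub_mem hk'K hkK) y hy, mul_assoc]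
            _ = 0 := by rw [hzero, mul_zero]
        rw [sub_eq_zero, ← eq_sub_iff_add_eq] at h2
        rw [h2, sub_eq_add_neg, ← neg_one_smul F k, h.neg, one_smul, add_comm]
    refine ⟨δ, by rw [← hδ, hk', mul_assoc, Units.inv_mul, mul_one], ?_⟩
    have h1 : (a : Matrix ι ι F) * k = (k + δ • 1) * (a : Matrix ι ι F) := by
      rw [← hδ, hk', mul_assoc, Units.inv_mul, mul_one]
    calc ((a⁻¹ : GL ι F) : Matrix ι ι F) * k
        = ((a⁻¹ : GL ι F) : Matrix ι ι F) * ((k + δ • 1) * (a : Matrix ι ι F) + δ • (a : Matrix ι ι F)) *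
            ((a⁻¹ : GL ι F) : Matrix ι ι F) := by
          rw [add_mul, Matrix.smul_mul, Matrix.one_mul, add_assoc, ← add_smul,
            show δ + δ = 0 by linear_combination δ * h.two, zero_smul, add_zero, mul_assoc, mul_assoc,
            Units.mul_inv, mul_one]
      _ = _ := by
          rw [← h1, mul_add, add_mul, ← mul_assoc, Units.inv_mul, one_mul, Matrix.mul_smul, Units.inv_mul,
            Matrix.smul_mul, Matrix.one_mul, add_mul, Matrix.smul_mul, Matrix.one_mul]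
  have hcent : ∀ g ∈ ⁅N, N⁆, (g : Matrix ι ι F) * k = k * (g : Matrix ι ι F) := by
    intro g hg
    rw [Subgroup.commutator_def] at hg
    induction hg using Subgroup.closure_induction with
    | mem x hx =>
      obtain ⟨a, ha, b, hb, rfl⟩ := hx
      obtain ⟨α, ha1, ha2⟩ := hδ a ha
      obtain ⟨β, hb1, hb2⟩ := hδ b hb
      have hmove : ∀ (x : Matrix ι ι F) (γ c : F), x * k = (k + γ • 1) * x →
          x * (k + c • 1) = (k + (γ + c) • 1) * x := fun x γ c hx => by
        simp only [mul_add, add_mul, Matrix.mul_smul, Matrix.smul_mul, Matrix.mul_one, Matrix.one_mul, add_smul,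
          hx, add_assoc]
      rw [commutatorElement_def, Units.val_mul, Units.val_mul, Units.val_mul]
      calc (a : Matrix ι ι F) * b * ((a⁻¹ : GL ι F) : Matrix ι ι F) * ((b⁻¹ : GL ι F) : Matrix ι ι F) * k
          = (a : Matrix ι ι F) * (b * (((a⁻¹ : GL ι F) : Matrix ι ι F) * (k + β • 1))) * ((b⁻¹ : GL ι F) : Matrix ι ι F) := by
            rw [mul_assoc (_ * _) _ k, hb2]; simp only [mul_assoc]
        _ = (a : Matrix ι ι F) * ((b : Matrix ι ι F) * (k + (α + β) • 1)) * ((a⁻¹ : GL ι F) : Matrix ι ι F) *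
              ((b⁻¹ : GL ι F) : Matrix ι ι F) := by
            rw [hmove _ _ _ ha2]; simp only [mul_assoc]
        _ = ((a : Matrix ι ι F) * (k + (β + (α + β)) • 1)) * (b : Matrix ι ι F) * ((a⁻¹ : GL ι F) : Matrix ι ι F) *
              ((b⁻¹ : GL ι F) : Matrix ι ι F) := by
            rw [hmove _ _ _ hb1]; simp only [mul_assoc]
        _ = (k + (α + (β + (α + β))) • 1) * ((a : Matrix ι ι F) * (b : Matrix ι ι F) * ((a⁻¹ : GL ι F) : Matrix ι ι F) *
              ((b⁻¹ : GL ι F) : Matrix ι ι F)) := by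
            rw [hmove _ _ _ ha1]; simp only [mul_assoc]
        _ = _ := by
            rw [show α + (β + (α + β)) = 0 by linear_combination (α + β) * h.two, zero_smul, add_zero]
    | one => simp
    | mul x y _ _ hx hy => rw [Units.val_mul, mul_assoc, hy, ← mul_assoc, hx, mul_assoc]
    | inv x _ hx =>
      calc ((x⁻¹ : GL ι F) : Matrix ι ι F) * k
          = ((x⁻¹ : GL ι F) : Matrix ι ι F) * (k * (x : Matrix ι ι F)) * ((x⁻¹ : GL ι F) : Matrix ι ι F) := by
            rw [mul_assoc, mul_assoc, Units.mul_inv, mul_one]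
        _ = _ := by rw [← hx, ← mul_assoc, Units.inv_mul, one_mul]
  obtain ⟨c, hc⟩ := hab.2 k (by
    rintro _ ⟨g, hg, rfl⟩
    exact (hcent g (hperf.symm ▸ hg)).symm)
  exact hk c hc

/-- the irreducible case -/
theorem irreducible_out {H : Subgroup (GL ι F)} (hi : Isom f H) (hH : Irr H) :
    HasQ f H ∨ DecOut h H ∨ KOut f H ∨ SubOut f H ∨ Cfsg.Geo.InSymplecticResidualClass H := by
  classical
  haveI : Nonempty ι := Fintype.card_pos_iff.1 (by rw [h.card]; norm_num)
  have hHne : H ≠ ⊥ := by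
    intro hb
    obtain ⟨v, hv⟩ := exists_ne (0 : ι → F)
    have hinv : Inv H (Submodule.span F {v}) := fun m hm w hw => by
      rw [show m = 1 from Subgroup.mem_bot.1 (hb ▸ hm), ac_one]; exact hw
    rcases hH _ hinv with e | e
    · exact hv ((Submodule.span_singleton_eq_bot).1 e)
    · have := finrank_span_singleton (K := F) hv
      rw [e, finrank_top, h.dim] at this; omega
  obtain ⟨N, hn, hNne, hmin⟩ := exists_minimal_normalIn hHne
  by_cases hab : Cfsg.Geo.ActsAbsolutelyIrreducibly (Cfsg.Geo.matrixSet N)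
  swap
  · rcases h.not_abs_out hi hH hn hNne hab with r | r | r
    exacts [Or.inl r, Or.inr (Or.inl r), Or.inr (Or.inr (Or.inl r))]
  have hiN : Isom f N := fun m hm => hi m (hn.le hm)
  have hNirr : Irr N := actsIrreducibly_iff.1 hab.1
  have hnoFix : NoFix N := noFix_of_normal hH hn hNne
  have hcentral : ∀ x ∈ N, (∀ y ∈ N, x * y = y * x) → x = 1 := by
    intro x hx hcomm
    obtain ⟨c, hc⟩ := hab.2 (x : Matrix ι ι F) (by
      rintro _ ⟨y, hy, rfl⟩
      exact congrArg Units.val (hcomm y hy))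
    refine h.scalar_eq_one (hiN x hx) ?_
    have hc0 : c ≠ 0 := fun e => x.ne_zero (by rw [hc, e, zero_smul])
    exact (Cfsg.Geo.mem_scalars_iff x).2 ⟨Units.mk0 c hc0, hc⟩
  have hperf : ⁅N, N⁆ = N := by
    rcases hmin _ (normalIn_commutator hn) (Subgroup.commutator_le.2 fun a ha b hb =>
        mul_mem (mul_mem (mul_mem ha hb) (inv_mem ha)) (inv_mem hb)) with e | e
    · exfalso
      refine hNne (eq_bot_iff.2 fun x hx => Subgroup.mem_bot.2 (hcentral x hx fun y hy => ?_))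
      have := Subgroup.commutator_mem_commutator hx hy
      rwa [e, Subgroup.mem_bot, commutatorElement_eq_one_iff_mul_comm] at this
    · exact e
  by_cases hsimp : ∀ M, NormalIn N M → M = ⊥ ∨ M = N
  swap
  · push Not at hsimp
    obtain ⟨M, hM, hM0, hMN⟩ := hsimp
    obtain ⟨T, ⟨hT, hT0, hTN⟩, hTmin⟩ := exists_minimal_of_wellFoundedLT
      (fun T : Subgroup (GL ι F) => NormalIn N T ∧ T ≠ ⊥ ∧ T ≠ N) ⟨M, hM, hM0, hMN⟩
    have hTab : ¬ Cfsg.Geo.ActsAbsolutelyIrreducibly (Cfsg.Geo.matrixSet T) := by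
      intro hTab
      obtain ⟨g, hg, hgT⟩ : ∃ g ∈ H, T.map (MulAut.conj g).toMonoidHom ≠ T := by
        by_contra hc
        push Not at hc
        rcases hmin T ⟨hT.le.trans hn.le, fun g hg t ht => hc g hg ▸ ⟨t, ht, rfl⟩⟩ hT.le with e | e
        exacts [hT0 e, hTN e]
      set T' := T.map (MulAut.conj g).toMonoidHom with hT'
      have hT'n : NormalIn N T' := conj_normalIn hn hT hg
      have hinf : T ⊓ T' = ⊥ := by
        by_contra hb
        have hle : T ≤ T ⊓ T' := hTmin ⟨⟨inf_le_left.trans hT.le, fun x hx m hm =>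
          ⟨hT.conj x hx m hm.1, hT'n.conj x hx m hm.2⟩⟩, hb, fun e =>
            hTN (le_antisymm hT.le (e ▸ inf_le_left))⟩ inf_le_left
        refine hgT (Subgroup.eq_of_le_of_card_ge (hle.trans inf_le_right) ?_).symm
        exact (Subgroup.card_map_of_injective (MulAut.conj g).injective).le
      refine hT0 ?_
      have hT'bot : T' = ⊥ := eq_bot_iff.2 fun y hy => Subgroup.mem_bot.2 (by
        have hcomm : ∀ t ∈ T, y * t = t * y := fun t ht => by
          refine commutatorElement_eq_one_iff_mul_comm.1 (Subgroup.mem_bot.1 (hinf.le (Subgroup.mem_inf.2 ⟨?_, ?_⟩)))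
          · exact mul_mem (hT.conj y (hT'n.le hy) t ht) (inv_mem ht)
          · show y * t * y⁻¹ * t⁻¹ ∈ T'
            rw [show y * t * y⁻¹ * t⁻¹ = y * (t * y⁻¹ * t⁻¹) by group]
            exact mul_mem hy (hT'n.conj t (hT.le ht) _ (inv_mem hy))
        obtain ⟨c, hc⟩ := hTab.2 (y : Matrix ι ι F) (by
          rintro _ ⟨t, ht, rfl⟩
          exact congrArg Units.val (hcomm t ht))
        refine h.scalar_eq_one (hiN y (hT'n.le hy)) ?_
        have hc0 : c ≠ 0 := fun e => y.ne_zero (by rw [hc, e, zero_smul])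
        exact (Cfsg.Geo.mem_scalars_iff y).2 ⟨Units.mk0 c hc0, hc⟩)
      exact (Subgroup.map_eq_bot_iff_of_injective _ (MulAut.conj g).injective).1 hT'bot
    rcases h.not_abs_out hiN hNirr hT hT0 hTab with r | r | r
    · exact Or.inl (h.hasQ_up hi hn hnoFix r)
    · exact absurd r (h.dec_false hiN hNirr hperf)
    · exact absurd r (h.kout_false hab hperf)
  by_cases hQ : ∃ Q : (ι → F) → F, Cfsg.Geo.IsNondegenerateQuadraticForm Q ∧
      Cfsg.Geo.FixesQuadForm (Cfsg.Geo.matrixSet N) Q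
  · obtain ⟨Q, hQ, hQN⟩ := hQ
    exact Or.inl (h.hasQ_up hi hn hnoFix (h.hasQ_of_fixes hiN hab hQ hQN))
  by_cases hsub : ∃ F₀ : Subfield F, F₀ ≠ ⊤ ∧ Cfsg.Geo.RealisableOver F₀ (Cfsg.Geo.matrixSet N)
  · obtain ⟨F₀, hF₀, hr⟩ := hsub
    exact Or.inr (Or.inr (Or.inr (Or.inl (h.subOut_of_realisable hi hn hab hF₀ hr))))
  refine Or.inr (Or.inr (Or.inr (Or.inr ⟨N, ?_, hQ, ?_⟩)))
  swap
  · rintro ⟨σ, g, hg, hgN⟩
    exact hsub (h.realisable_of_unitary hiN hab hg hgN)
  have hsc : (Cfsg.Geo.scalars ι F).subgroupOf N = ⊥ := eq_bot_iff.2 fun x hx =>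
    Subgroup.mem_bot.2 (Subtype.ext (h.scalar_eq_one (hiN x x.2) hx))
  let e : (N ⧸ (Cfsg.Geo.scalars ι F).subgroupOf N) ≃* N :=
    (QuotientGroup.quotientMulEquivOfEq hsc).trans QuotientGroup.quotientBot
  haveI : Nontrivial N := (Subgroup.nontrivial_iff_ne_bot N).2 hNne
  have hNsimple : IsSimpleGroup N := by
    refine ⟨fun M hM => ?_⟩
    have hMn : NormalIn N (M.map N.subtype) := ⟨Subgroup.map_subtype_le M, by
      rintro x hx _ ⟨y, hy, rfl⟩
      exact ⟨_, hM.conj_mem y hy ⟨x, hx⟩, rfl⟩⟩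
    rcases hsimp _ hMn with e | e
    · exact Or.inl ((Subgroup.map_eq_bot_iff_of_injective _ N.subtype_injective).1 e)
    · refine Or.inr (eq_top_iff.2 fun x _ => ?_)
      have hx : (x : GL ι F) ∈ M.map N.subtype := by rw [e]; exact x.2
      obtain ⟨y, hy, hyx⟩ := hx
      exact (Subtype.ext hyx : y = x) ▸ hy
  exact
    { le := hn.le
      normal := hn.conj
      perfect := hperf
      simple := e.isSimpleGroup
      nonabelian := fun hc => hNne (eq_bot_iff.2 fun x hx => Subgroup.mem_bot.2 (hcentral x hx fun y hy => by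
        have h1 := congrArg e (hc.is_comm.comm (e.symm ⟨x, hx⟩) (e.symm ⟨y, hy⟩))
        rw [map_mul, map_mul, e.apply_symm_apply, e.apply_symm_apply] at h1
        exact congrArg Subtype.val h1))
      centralizer_scalar := fun g hg hgc => by
        have hcomm : ∀ x ∈ N, g * x = x * g := fun x hx => by
          have h1 := h.scalar_eq_one (hiN _ (mul_mem (hn.conj g hg x hx) (inv_mem hx))) (hgc x hx)
          rw [mul_inv_eq_one, mul_inv_eq_iff_eq_mul] at h1
          exact h1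
        obtain ⟨c, hc⟩ := hab.2 (g : Matrix ι ι F) (by
          rintro _ ⟨x, hx, rfl⟩
          exact congrArg Units.val (hcomm x hx))
        have hc0 : c ≠ 0 := fun e => g.ne_zero (by rw [hc, e, zero_smul])
        exact (Cfsg.Geo.mem_scalars_iff g).2 ⟨Units.mk0 c hc0, hc⟩
      absIrred := hab
      no_subfield := fun F₀ hF₀ hr => hsub ⟨F₀, hF₀, hr⟩ }

end Setup

end Cfsg.Agent.Lib.SpFourEven
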