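import Cfsg.Agent.Lib.SpFourEven.Main

/-! The geometric stabilisers are proper: a transvection lies outside each of them. -/

set_option autoImplicit false
set_option linter.unusedSectionVars false
set_option linter.style.haveILetI false

open scoped Matrix MatrixGroups

namespace Cfsg.Agent.Lib.SpFourEven

variable {ι : Type} [Fintype ι] [DecidableEq ι] {F : Type*} [Field F] [Fintype F]
  {f : (ι → F) → (ι → F) → F}

namespace Setup

variable (h : Setup f)
include h

/-- the transvection `x ↦ x + c f(x, u) u` -/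
lemma exists_transvection (u : ι → F) (c : F) :
    ∃ T : GL ι F, (∀ x, ac T x = x + (c * f x u) • u) ∧ ∀ x y, f (ac T x) (ac T y) = f x y := by
  let L : (ι → F) →ₗ[F] (ι → F) :=
    { toFun := fun x => x + (c * f x u) • u
      map_add' := fun x y => by rw [h.symp.bilinear.add_left, mul_add, add_smul]; abel
      map_smul' := fun a x => by
        rw [h.symp.bilinear.smul_left, RingHom.id_apply, smul_add, smul_smul]; congr 2; ring }
  have hmul : LinearMap.toMatrix' L * LinearMap.toMatrix' L = 1 := by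
    rw [← LinearMap.toMatrix'_comp, ← LinearMap.toMatrix'_id]
    congr 1
    refine LinearMap.ext fun x => ?_
    show x + (c * f x u) • u + (c * f (x + (c * f x u) • u) u) • u = x
    rw [h.symp.bilinear.add_left, h.symp.bilinear.smul_left, h.alt, mul_zero, add_zero, add_assoc, ← add_smul,
      show c * f x u + c * f x u = 0 by linear_combination (c * f x u) * h.two, zero_smul, add_zero]
  refine ⟨⟨LinearMap.toMatrix' L, LinearMap.toMatrix' L, hmul, hmul⟩, fun x => ?_, fun x y => ?_⟩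
  · show LinearMap.toMatrix' L *ᵥ x = _
    rw [LinearMap.toMatrix'_mulVec]; rfl
  · show f (LinearMap.toMatrix' L *ᵥ x) (LinearMap.toMatrix' L *ᵥ y) = _
    rw [LinearMap.toMatrix'_mulVec, LinearMap.toMatrix'_mulVec]
    show f (x + (c * f x u) • u) (y + (c * f y u) • u) = f x y
    simp only [h.symp.bilinear.add_left, h.symp.bilinear.add_right, h.symp.bilinear.smul_left,
      h.symp.bilinear.smul_right, h.alt, h.symm u y, mul_zero, add_zero]
    linear_combination (c * f x u * f y u) * h.two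

variable {I : Subgroup (GL ι F)} (hI : ∀ g : GL ι F, (∀ x y, f (ac g x) (ac g y) = f x y) → g ∈ I)
include hI

lemma subspace_proper {W : Submodule F (ι → F)} (h0 : W ≠ ⊥) (hW : W ≤ h.bil.orthogonal W) :
    ¬ I ≤ Cfsg.Geo.subspaceStabilizer W := by
  intro hle
  obtain ⟨w, hw, hw0⟩ := Submodule.exists_mem_ne_zero_of_ne_bot h0
  obtain ⟨u, hu⟩ := (h.symp.nondegenerate w hw0).2
  obtain ⟨T, hT, hTi⟩ := h.exists_transvection u 1
  have h1 : ac T w ∈ W := (hle (hI T hTi) w).1 hw
  rw [hT, one_mul] at h1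
  have h2 : u ∈ W := by
    have h3 := W.smul_mem (f w u)⁻¹ (W.sub_mem h1 hw)
    rwa [add_sub_cancel_left, smul_smul, inv_mul_cancel₀ hu, one_smul] at h3
  exact hu (hW h2 w hw)

lemma dec_proper {U : Submodule F (ι → F)} (hU2 : Module.finrank F U = 2) (hr : U ⊓ h.bil.orthogonal U = ⊥) :
    ¬ I ≤ Cfsg.Geo.decompositionStabilizer ![U, h.bil.orthogonal U] := by
  intro hle
  obtain ⟨w, hw, hw0⟩ := Submodule.exists_mem_ne_zero_of_ne_bot
    (fun e => by rw [e, finrank_bot] at hU2; omega : U ≠ ⊥)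
  obtain ⟨w', hw', hw'0⟩ := Submodule.exists_mem_ne_zero_of_ne_bot
    (fun e => by have := h.finrank_orth U; rw [e, finrank_bot, hU2] at this; omega : h.bil.orthogonal U ≠ ⊥)
  obtain ⟨x, hx, hxw⟩ : ∃ x ∈ U, f x w ≠ 0 := by
    by_contra hc
    push Not at hc
    exact hw0 ((Submodule.mem_bot F).1 (hr ▸ ⟨hw, hc⟩))
  obtain ⟨T, hT, hTi⟩ := h.exists_transvection (w + w') 1
  obtain ⟨σ, hσ⟩ := hle (hI T hTi)
  have h1 : ac T x ∈ (![U, h.bil.orthogonal U] (σ 0)) := by
    rw [← hσ 0]; exact ⟨x, hx, Matrix.toLin'_apply _ _⟩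
  have hxu : f x (w + w') = f x w := by
    rw [h.symp.bilinear.add_right, show f x w' = 0 from hw' x hx, add_zero]
  rw [hT, hxu, one_mul] at h1
  have hsplit : x + f x w • (w + w') = (x + f x w • w) + f x w • w' := by rw [smul_add, add_assoc]
  rw [hsplit] at h1
  have hA : x + f x w • w ∈ U := U.add_mem hx (U.smul_mem _ hw)
  have hB : f x w • w' ∈ h.bil.orthogonal U := Submodule.smul_mem _ _ hw'
  have hcase : ∀ i : Fin 2, i = 0 ∨ i = 1 := by decide
  rcases hcase (σ 0) with e | e <;> rw [e] at h1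
  · have : f x w • w' ∈ U ⊓ h.bil.orthogonal U := ⟨by simpa using U.sub_mem h1 hA, hB⟩
    rw [hr, Submodule.mem_bot, smul_eq_zero] at this
    exact this.elim hxw hw'0
  · have : x + f x w • w ∈ U ⊓ h.bil.orthogonal U := ⟨hA, by simpa using (h.bil.orthogonal U).sub_mem h1 hB⟩
    rw [hr, Submodule.mem_bot] at this
    have h2 := congrArg (fun z => f z w) this
    simp only [h.symp.bilinear.add_left, h.symp.bilinear.smul_left, h.alt, mul_zero, add_zero] at h2
    rw [h.symm 0 w, ← zero_smul F (0 : ι → F), h.symp.bilinear.smul_right, zero_mul] at h2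
    exact hxw h2

lemma quad_proper (h4 : 4 ≤ Fintype.card F) {Q : (ι → F) → F}
    (hQ : ∀ (c : F) v, Q (c • v) = c ^ 2 * Q v) (hQp : ∀ u v, QuadraticMap.polar Q u v = f u v) :
    ¬ I ≤ Cfsg.Geo.quadSimilarityGroup Q := by
  classical
  intro hle
  haveI : Nonempty ι := Fintype.card_pos_iff.1 (by rw [h.card]; norm_num)
  obtain ⟨u, hu⟩ := exists_ne (0 : ι → F)
  obtain ⟨x, hx⟩ := (h.symp.nondegenerate u hu).1
  obtain ⟨c, hc0, hc1⟩ : ∃ c : F, c ≠ 0 ∧ 1 + c * Q u ≠ 0 := by
    obtain ⟨c, hc⟩ : ∃ c : F, c ∉ ({0, -(Q u)⁻¹} : Finset F) := by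
      by_contra hcon
      push Not at hcon
      have hle2 := (Finset.card_le_card (fun c (_ : c ∈ (Finset.univ : Finset F)) => hcon c)).trans Finset.card_le_two
      rw [Finset.card_univ] at hle2
      omega
    simp only [Finset.mem_insert, Finset.mem_singleton, not_or] at hc
    refine ⟨c, hc.1, fun e => ?_⟩
    by_cases hq : Q u = 0
    · rw [hq, mul_zero, add_zero] at e; exact one_ne_zero e
    · exact hc.2 (by field_simp; linear_combination e)
  obtain ⟨T, hT, hTi⟩ := h.exists_transvection u c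
  obtain ⟨l, hl⟩ := hle (hI T hTi)
  have hpol : f x u = (l : F) * f x u := by
    have e1 := hl (x + u)
    have e2 := hl x
    have e3 := hl u
    rw [Matrix.mulVec_add] at e1
    have e4 := hQp (ac T x) (ac T u)
    rw [hTi, ← hQp x u] at e4
    rw [← hQp x u]
    simp only [QuadraticMap.polar] at e4 ⊢
    linear_combination e1 - e2 - e3 - e4
  have hl1 : (l : F) = 1 := mul_right_cancel₀ hx (hpol.symm.trans (one_mul _).symm)
  have e2 := hl x
  rw [show (T : Matrix ι ι F) *ᵥ x = x + (c * f x u) • u from hT x, hl1, one_mul] at e2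
  have e3 := hQp x ((c * f x u) • u)
  simp only [QuadraticMap.polar] at e3
  rw [e2, hQ, h.symp.bilinear.smul_right] at e3
  have : (c * (f x u * f x u)) * (1 + c * Q u) = 0 := by linear_combination -e3
  exact mul_ne_zero (mul_ne_zero hc0 (mul_ne_zero hx hx)) hc1 this

lemma kout_proper {K : Subalgebra F (Matrix ι ι F)} (hK : Cfsg.Geo.IsFieldSubalgebra 2 K) :
    ¬ I ≤ Cfsg.Geo.subalgebraNormalizer K := by
  intro hle
  haveI : Nonempty ι := Fintype.card_pos_iff.1 (by rw [h.card]; norm_num)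
  obtain ⟨k, hkK, hk⟩ : ∃ k ∈ K, ∀ c : F, k ≠ c • (1 : Matrix ι ι F) := by
    by_contra hc
    push Not at hc
    have hb : K = ⊥ := eq_bot_iff.2 fun x hx => by
      obtain ⟨c, rfl⟩ := hc x hx
      exact Algebra.mem_bot.2 ⟨c, Algebra.algebraMap_eq_smul_one c⟩
    have := hK.finrank_eq
    rw [hb, Subalgebra.finrank_bot] at this
    omega
  obtain ⟨u, hu⟩ := exists_ne (0 : ι → F)
  obtain ⟨x, hx⟩ := (h.symp.nondegenerate u hu).1
  obtain ⟨T, hT, hTi⟩ := h.exists_transvection u 1
  set k' := (T : Matrix ι ι F) * k * ((T⁻¹ : GL ι F) : Matrix ι ι F) with hk'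
  have hk'K : k' ∈ K := (hle (hI T hTi) k).1 hkK
  let φ : (ι → F) →ₗ[F] (Fin 2 → F) :=
    { toFun := fun v => ![f v u, f (k *ᵥ v) u]
      map_add' := fun a b => by
        rw [Matrix.mulVec_add, h.symp.bilinear.add_left, h.symp.bilinear.add_left]; simp
      map_smul' := fun a b => by
        rw [Matrix.mulVec_smul, h.symp.bilinear.smul_left, h.symp.bilinear.smul_left]; simp }
  obtain ⟨v, hv, hv0⟩ := Submodule.exists_mem_ne_zero_of_ne_bot (fun e => by
    have := LinearMap.finrank_range_add_finrank_ker φ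
    rw [e, finrank_bot, h.dim] at this
    have := Submodule.finrank_le (LinearMap.range φ)
    rw [Module.finrank_fintype_fun_eq_card, Fintype.card_fin] at this
    omega : LinearMap.ker φ ≠ ⊥)
  have hv1 : f v u = 0 := congrFun (LinearMap.mem_ker.1 hv) 0
  have hv2 : f (k *ᵥ v) u = 0 := congrFun (LinearMap.mem_ker.1 hv) 1
  have hTk : k' * (T : Matrix ι ι F) = (T : Matrix ι ι F) * k := by rw [hk', mul_assoc, Units.inv_mul, mul_one]
  have hkeq : k' = k := by
    have h1 : k' *ᵥ v = k *ᵥ v := by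
      have h2 := congrArg (· *ᵥ v) hTk
      simp only [← Matrix.mulVec_mulVec] at h2
      rw [show (T : Matrix ι ι F) *ᵥ v = v by rw [show (T : Matrix ι ι F) *ᵥ v = _ from hT v, hv1, mul_zero, zero_smul, add_zero],
        show (T : Matrix ι ι F) *ᵥ (k *ᵥ v) = k *ᵥ v by
          rw [show (T : Matrix ι ι F) *ᵥ (k *ᵥ v) = _ from hT (k *ᵥ v), hv2, mul_zero, zero_smul, add_zero]] at h2
      exact h2
    by_contra hne
    obtain ⟨y, -, hy⟩ := hK.inv _ (sub_mem hk'K hkK) (sub_ne_zero.2 hne)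
    have hy' : y * (k' - k) = 1 := mul_eq_one_comm.1 hy
    apply hv0
    calc v = (y * (k' - k)) *ᵥ v := by rw [hy', Matrix.one_mulVec]
      _ = 0 := by rw [← Matrix.mulVec_mulVec, Matrix.sub_mulVec, h1, sub_self, Matrix.mulVec_zero]
  rw [hkeq] at hTk
  have h3 := congrArg (· *ᵥ x) hTk
  simp only [← Matrix.mulVec_mulVec] at h3
  rw [show (T : Matrix ι ι F) *ᵥ x = _ from hT x, show (T : Matrix ι ι F) *ᵥ (k *ᵥ x) = _ from hT (k *ᵥ x), one_mul,
    one_mul, Matrix.mulVec_add, Matrix.mulVec_smul, add_right_inj] at h3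
  set a := f (k *ᵥ x) u / f x u with ha
  have hku : k *ᵥ u = a • u := by
    rw [ha, div_eq_inv_mul, ← smul_smul, ← h3, smul_smul, inv_mul_cancel₀ hx, one_smul]
  obtain ⟨y, -, hy⟩ := hK.inv (k - a • 1) (sub_mem hkK (K.smul_mem K.one_mem a)) (sub_ne_zero.2 (hk a))
  have hy' : y * (k - a • 1) = 1 := mul_eq_one_comm.1 hy
  apply hu
  calc u = (y * (k - a • 1)) *ᵥ u := by rw [hy', Matrix.one_mulVec]
    _ = 0 := by rw [← Matrix.mulVec_mulVec, Matrix.sub_mulVec, Matrix.smul_mulVec, Matrix.one_mulVec, hku, sub_self,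
      Matrix.mulVec_zero]

lemma sub_proper {F₀ : Subfield F} {r : ℕ} {P : GL ι F} (hr : r.Prime)
    (hcard : Fintype.card F = Nat.card F₀ ^ r) : ¬ I ≤ Cfsg.Geo.subfieldSubgroup F₀ P := by
  classical
  intro hle
  haveI : Nonempty ι := Fintype.card_pos_iff.1 (by rw [h.card]; norm_num)
  letI : Fintype F₀ := Fintype.ofFinite F₀
  obtain ⟨u, hu⟩ := exists_ne (0 : ι → F)
  obtain ⟨x, hx⟩ := (h.symp.nondegenerate u hu).1
  have hsqrt : ∀ a : F₀, ∃ s : F₀, s * s = a := fun a =>
    Finite.surjective_of_injective (f := fun s : F₀ => s * s) (fun s t hst => by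
      have h1 : (s : F) * s = (t : F) * t := congrArg Subtype.val hst
      refine Subtype.ext (sub_eq_zero.1 (mul_self_eq_zero.1 ?_))
      linear_combination h1 + ((t : F) * t - (s : F) * t) * h.two) a
  let L : (ι → F) →ₗ[F] (ι → F) :=
    { toFun := fun y => f (ac P y) u • ac P⁻¹ u
      map_add' := fun a b => by
        show f ((P : Matrix ι ι F) *ᵥ (a + b)) u • _ = _
        rw [Matrix.mulVec_add, h.symp.bilinear.add_left, add_smul]
      map_smul' := fun a b => by
        show f ((P : Matrix ι ι F) *ᵥ (a • b)) u • _ = _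
        rw [Matrix.mulVec_smul, h.symp.bilinear.smul_left, mul_smul]; rfl }
  have hLne : LinearMap.toMatrix' L ≠ 0 := by
    intro e
    have h1 : L (ac P⁻¹ x) = 0 := by rw [← LinearMap.toMatrix'_mulVec L, e, Matrix.zero_mulVec]
    change f (ac P (ac P⁻¹ x)) u • ac P⁻¹ u = 0 at h1
    rw [ac_ac_inv, smul_eq_zero] at h1
    exact hu (ac_injective P⁻¹ ((h1.resolve_left hx).trans (Matrix.mulVec_zero _).symm))
  obtain ⟨i, j, hij⟩ : ∃ i j, LinearMap.toMatrix' L i j ≠ 0 := by
    by_contra hc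
    push Not at hc
    exact hLne (Matrix.ext hc)
  set M := LinearMap.toMatrix' L with hM
  have hall : ∀ c : F, c * M i j ∈ F₀ := by
    intro c
    obtain ⟨T, hT, hTi⟩ := h.exists_transvection u c
    obtain ⟨X, hX, hXT⟩ := hle (hI T hTi)
    obtain ⟨_, ⟨A, rfl⟩, s, hs, rfl⟩ := Subgroup.mem_sup_of_normal_right.1 hX
    obtain ⟨l, hl⟩ := (Cfsg.Geo.mem_scalars_iff s).1 hs
    set Z : GL ι F := Matrix.GeneralLinearGroup.map (F₀.subtype : F₀ →+* F) A * s with hZ
    have hXT' : P * Z * P⁻¹ = T := hXT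
    have hZeq : Z = P⁻¹ * T * P := by rw [← hXT']; group
    have hZmat : (Z : Matrix ι ι F) = 1 + c • M := by
      refine Matrix.toLin'.injective (LinearMap.ext fun y => ?_)
      rw [Matrix.toLin'_apply, Matrix.toLin'_apply, Matrix.add_mulVec, Matrix.one_mulVec, Matrix.smul_mulVec, hM,
        LinearMap.toMatrix'_mulVec]
      show ac Z y = y + c • (f (ac P y) u • ac P⁻¹ u)
      rw [hZeq, ac_mul, ac_mul, hT]
      show (P⁻¹ : GL ι F).val *ᵥ (ac P y + _) = _
      rw [Matrix.mulVec_add, Matrix.mulVec_smul, smul_smul]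
      exact congrArg (· + _) (ac_inv_ac P y)
    have hZmat' : (Z : Matrix ι ι F) = (l : F) • (A : Matrix ι ι F₀).map F₀.subtype := by
      rw [hZ, Units.val_mul, hl, Matrix.mul_smul, Matrix.mul_one]; rfl
    have hZ2 : (Z : Matrix ι ι F) * (Z : Matrix ι ι F) = 1 := by
      have hTT : T * T = 1 := eq_one_of_ac fun y => by
        rw [ac_mul, hT, hT, h.symp.bilinear.add_left, h.symp.bilinear.smul_left, h.alt, mul_zero, add_zero,
          add_assoc, ← add_smul, show c * f y u + c * f y u = 0 by linear_combination (c * f y u) * h.two,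
          zero_smul, add_zero]
      rw [← Units.val_mul, hZeq, show P⁻¹ * T * P * (P⁻¹ * T * P) = P⁻¹ * (T * T) * P by group, hTT]
      simp
    have hl2 : ((l : F) * l)⁻¹ ∈ F₀ := by
      rw [hZmat', Matrix.smul_mul, Matrix.mul_smul, smul_smul, ← Matrix.map_mul] at hZ2
      have h1 := congrFun (congrFun hZ2 i) i
      rw [Matrix.smul_apply, Matrix.map_apply, Matrix.one_apply_eq, smul_eq_mul] at h1
      rw [inv_eq_of_mul_eq_one_right h1]
      exact SetLike.coe_mem _
    have hl0 : (l : F) ∈ F₀ := by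
      obtain ⟨s', hs'⟩ := hsqrt ⟨_, inv_mem hl2⟩
      have h1 : (s' : F) * s' = (l : F) * l := by
        have := congrArg Subtype.val hs'
        simpa using this
      have : (s' : F) = (l : F) := sub_eq_zero.1 (mul_self_eq_zero.1
        (by linear_combination h1 + ((l : F) * l - (s' : F) * l) * h.two : ((s' : F) - l) * ((s' : F) - l) = 0))
      exact this ▸ s'.2
    have h1 := congrFun (congrFun (hZmat.symm.trans hZmat') i) j
    rw [Matrix.add_apply, Matrix.smul_apply, Matrix.smul_apply, Matrix.map_apply, smul_eq_mul, smul_eq_mul] at h1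
    rw [eq_sub_of_add_eq' h1]
    refine sub_mem (mul_mem hl0 (SetLike.coe_mem _)) ?_
    rw [Matrix.one_apply]
    split_ifs
    exacts [one_mem _, zero_mem _]
  have htop : F₀ = ⊤ := by
    rw [eq_top_iff]
    rintro y -
    have := hall (y * (M i j)⁻¹)
    rwa [mul_assoc, inv_mul_cancel₀ hij, mul_one] at this
  subst htop
  rw [← Nat.card_eq_fintype_card, Nat.card_congr (Subfield.topEquiv (K := F)).toEquiv] at hcard
  have h2 : 2 ≤ Nat.card F := by rw [Nat.card_eq_fintype_card]; exact Fintype.one_lt_card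
  exact hr.one_lt.ne (Nat.pow_right_injective h2 ((pow_one _).trans hcard))

end Setup

end Cfsg.Agent.Lib.SpFourEven
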