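import Cfsg.Agent.Lib.SpFourEven.Basic

/-! A reducible normal subgroup gives an invariant quadratic form or a decomposition into two planes. -/

set_option autoImplicit false
set_option linter.unusedSectionVars false

open scoped Matrix MatrixGroups

namespace Cfsg.Agent.Lib.SpFourEven

variable {ι : Type} [Fintype ι] [DecidableEq ι] {F : Type*} [Field F]
  {f : (ι → F) → (ι → F) → F}

/-- `G` permutes a non-degenerate plane and its orthogonal -/
def DecOut (h : Setup f) (G : Subgroup (GL ι F)) : Prop :=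
  ∃ U : Submodule F (ι → F), Module.finrank F U = 2 ∧ U ⊓ h.bil.orthogonal U = ⊥ ∧
    ∀ g ∈ G, U.map (Matrix.toLin' (g : Matrix ι ι F)) = U ∨
      U.map (Matrix.toLin' (g : Matrix ι ι F)) = h.bil.orthogonal U

lemma inv_inf {M : Subgroup (GL ι F)} {U W : Submodule F (ι → F)} (hU : Inv M U) (hW : Inv M W) :
    Inv M (U ⊓ W) := fun m hm v hv => ⟨hU m hm v hv.1, hW m hm v hv.2⟩

lemma inv_sup {M : Subgroup (GL ι F)} {U W : Submodule F (ι → F)} (hU : Inv M U) (hW : Inv M W) :
    Inv M (U ⊔ W) := by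
  intro m hm v hv
  obtain ⟨a, ha, b, hb, rfl⟩ := Submodule.mem_sup.1 hv
  show (m : Matrix ι ι F) *ᵥ (a + b) ∈ _
  rw [Matrix.mulVec_add]
  exact Submodule.add_mem_sup (hU m hm a ha) (hW m hm b hb)

lemma finrank_map_ac (g : GL ι F) (W : Submodule F (ι → F)) :
    Module.finrank F (W.map (Matrix.toLin' (g : Matrix ι ι F))) = Module.finrank F W :=
  (Submodule.equivMapOfInjective _ (fun x y hxy => ac_injective g (by
    simpa [Matrix.toLin'_apply] using hxy)) W).finrank_eq.symm

/-- an eigenvector of `M` -/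
def Eig (M : Subgroup (GL ι F)) (v : ι → F) : Prop := ∀ m ∈ M, ∃ c : F, ac m v = c • v

lemma inv_span_pair {M : Subgroup (GL ι F)} {a b : ι → F} (ha : Eig M a) (hb : Eig M b) :
    Inv M (Submodule.span F {a, b}) := by
  intro m hm v hv
  obtain ⟨r, s, rfl⟩ := Submodule.mem_span_pair.1 hv
  obtain ⟨c, hc⟩ := ha m hm
  obtain ⟨d, hd⟩ := hb m hm
  refine Submodule.mem_span_pair.2 ⟨r * c, s * d, ?_⟩
  show _ = (m : Matrix ι ι F) *ᵥ (r • a + s • b)
  rw [Matrix.mulVec_add, Matrix.mulVec_smul, Matrix.mulVec_smul, show (m : Matrix ι ι F) *ᵥ a = c • a from hc,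
    show (m : Matrix ι ι F) *ᵥ b = d • b from hd, smul_smul, smul_smul]

namespace Setup

variable (h : Setup f)
include h

lemma span_pair_ti {a b : ι → F} (hab : f a b = 0) :
    Submodule.span F {a, b} ≤ h.bil.orthogonal (Submodule.span F {a, b}) := by
  intro v hv
  rw [h.mem_orth]
  intro w hw
  obtain ⟨r, s, rfl⟩ := Submodule.mem_span_pair.1 hv
  obtain ⟨r', s', rfl⟩ := Submodule.mem_span_pair.1 hw
  simp only [h.symp.bilinear.add_left, h.symp.bilinear.add_right, h.symp.bilinear.smul_left,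
    h.symp.bilinear.smul_right, h.alt, h.symm b a, hab, mul_zero, add_zero]

lemma finrank_span_pair {a b x y : ι → F} (hax : f a x ≠ 0) (hby : f b y ≠ 0) (hbx : f b x = 0) (hay : f a y = 0) :
    Module.finrank F (Submodule.span F ({a, b} : Set (ι → F))) = 2 := by
  have hli : LinearIndependent F ![a, b] := LinearIndependent.pair_iff.2 fun r s hrs => by
    have hz : ∀ z, r * f a z + s * f b z = 0 := fun z => by
      rw [← h.symp.bilinear.smul_left, ← h.symp.bilinear.smul_left, ← h.symp.bilinear.add_left, hrs,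
        ← zero_smul F (0 : ι → F), h.symp.bilinear.smul_left, zero_mul]
    have h1 := hz x
    have h2 := hz y
    rw [hbx, mul_zero, add_zero, mul_eq_zero] at h1
    rw [hay, mul_zero, zero_add, mul_eq_zero] at h2
    exact ⟨h1.resolve_right hax, h2.resolve_right hby⟩
  have h3 := finrank_span_eq_card hli
  rwa [Matrix.range_cons_cons_empty, Fintype.card_fin] at h3

/-- eigenvectors of a normal subgroup give two complementary totally singular invariant planes -/
theorem hasQ_of_eig {G M : Subgroup (GL ι F)} (hi : Isom f G) (hG : Irr G) (hn : NormalIn G M)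
    {v0 : ι → F} (hv0 : v0 ≠ 0) (he0 : Eig M v0) : HasQ f M := by
  have hiM : Isom f M := fun m hm => hi m (hn.le hm)
  set E : Set (ι → F) := {v | Eig M v} with hE
  have hspan : Submodule.span F E = ⊤ := by
    refine (hG _ ?_).resolve_left fun hb => hv0 ?_
    · intro g hg v hv
      refine Submodule.span_induction (p := fun x _ => ac g x ∈ Submodule.span F E) ?_ ?_ ?_ ?_ hv
      · intro x hx
        refine Submodule.subset_span fun m hm => ?_
        obtain ⟨c, hc⟩ := hx (g⁻¹ * m * g⁻¹⁻¹) (hn.conj g⁻¹ (inv_mem hg) m hm)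
        refine ⟨c, ?_⟩
        have h1 := congrArg (ac g) hc
        rw [← ac_mul, show g * (g⁻¹ * m * g⁻¹⁻¹) = m * g by group, ac_mul] at h1
        rw [h1]; exact Matrix.mulVec_smul _ _ _
      · show (g : Matrix ι ι F) *ᵥ 0 ∈ _
        rw [Matrix.mulVec_zero]; exact zero_mem _
      · intro x y _ _ hx hy
        show (g : Matrix ι ι F) *ᵥ (x + y) ∈ _
        rw [Matrix.mulVec_add]; exact add_mem hx hy
      · intro c x _ hx
        show (g : Matrix ι ι F) *ᵥ (c • x) ∈ _
        rw [Matrix.mulVec_smul]; exact Submodule.smul_mem _ c hx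
    · exact (Submodule.mem_bot F).1 (hb ▸ Submodule.subset_span (show v0 ∈ E from he0))
  have hpair : ∀ u : ι → F, u ≠ 0 → ∃ e ∈ E, f u e ≠ 0 := by
    intro u hu
    by_contra hc
    push Not at hc
    obtain ⟨x, hx⟩ := (h.symp.nondegenerate u hu).2
    apply hx
    have hle : Submodule.span F E ≤ LinearMap.ker (h.bil u) :=
      Submodule.span_le.2 fun e he => LinearMap.mem_ker.2 (hc e he)
    exact LinearMap.mem_ker.1 (hle (hspan ▸ Submodule.mem_top))
  obtain ⟨v1, hv1, ha⟩ := hpair v0 hv0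
  set a := f v0 v1 with hadef
  let π : (ι → F) → (ι → F) := fun v => v + (f v v1 / a) • v0 + (f v v0 / a) • v1
  have hπ1 : ∀ v, f (π v) v1 = 0 := fun v => by
    show f (v + _ + _) v1 = 0
    rw [h.symp.bilinear.add_left, h.symp.bilinear.add_left, h.symp.bilinear.smul_left, h.symp.bilinear.smul_left,
      h.alt, ← hadef, div_mul_cancel₀ _ ha]
    linear_combination (f v v1) * h.two
  have hπ0 : ∀ v, f (π v) v0 = 0 := fun v => by
    show f (v + _ + _) v0 = 0
    rw [h.symp.bilinear.add_left, h.symp.bilinear.add_left, h.symp.bilinear.smul_left, h.symp.bilinear.smul_left,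
      h.alt, h.symm v1 v0, ← hadef, div_mul_cancel₀ _ ha]
    linear_combination (f v v0) * h.two
  have hπeig : ∀ e ∈ E, Eig M (π e) := by
    intro e he m hm
    obtain ⟨c, hc⟩ := he m hm
    obtain ⟨k, hk⟩ := he0 m hm
    obtain ⟨l, hl⟩ := hv1 m hm
    refine ⟨c, ?_⟩
    show (m : Matrix ι ι F) *ᵥ (e + (f e v1 / a) • v0 + (f e v0 / a) • v1) = c • (e + _ + _)
    rw [Matrix.mulVec_add, Matrix.mulVec_add, Matrix.mulVec_smul, Matrix.mulVec_smul, smul_add, smul_add,
      show (m : Matrix ι ι F) *ᵥ e = c • e from hc, show (m : Matrix ι ι F) *ᵥ v0 = k • v0 from hk,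
      show (m : Matrix ι ι F) *ᵥ v1 = l • v1 from hl, smul_smul, smul_smul, smul_smul, smul_smul]
    have e1 : c * l * f e v1 = f e v1 := by
      have h1 := hiM m hm e v1
      rwa [hc, hl, h.symp.bilinear.smul_left, h.symp.bilinear.smul_right, ← mul_assoc] at h1
    have e0 : c * k * f e v0 = f e v0 := by
      have h1 := hiM m hm e v0
      rwa [hc, hk, h.symp.bilinear.smul_left, h.symp.bilinear.smul_right, ← mul_assoc] at h1
    have ekl : k * l = 1 := by
      have h1 := hiM m hm v0 v1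
      rw [hk, hl, h.symp.bilinear.smul_left, h.symp.bilinear.smul_right, ← mul_assoc, ← hadef] at h1
      exact mul_right_cancel₀ ha (h1.trans (one_mul a).symm)
    have q0 : f e v1 / a * k = c * (f e v1 / a) := by
      calc f e v1 / a * k = (c * l * f e v1) / a * k := by rw [e1]
        _ = c * (f e v1 / a) * (k * l) := by ring
        _ = _ := by rw [ekl, mul_one]
    have q1 : f e v0 / a * l = c * (f e v0 / a) := by
      calc f e v0 / a * l = (c * k * f e v0) / a * l := by rw [e0]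
        _ = c * (f e v0 / a) * (k * l) := by ring
        _ = _ := by rw [ekl, mul_one]
    rw [q0, q1]
  have hfπ : ∀ {u : ι → F}, f u v0 = 0 → f u v1 = 0 → ∀ v, f u (π v) = f u v := by
    intro u hu0 hu1 v
    show f u (v + _ + _) = _
    rw [h.symp.bilinear.add_right, h.symp.bilinear.add_right, h.symp.bilinear.smul_right,
      h.symp.bilinear.smul_right, hu0, hu1]
    ring
  obtain ⟨x, hx0, hx1, hxne⟩ : ∃ x, f x v0 = 0 ∧ f x v1 = 0 ∧ x ≠ 0 := by
    have hr : Module.finrank F (h.bil.orthogonal (Submodule.span F {v0, v1})) ≠ 0 := by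
      rw [h.finrank_orth]
      have h2 : Module.finrank F (Submodule.span F ({v0, v1} : Set (ι → F))) ≤ 2 := by
        classical
        refine (finrank_span_le_card ({v0, v1} : Set (ι → F))).trans ?_
        rw [Set.toFinset_insert, Set.toFinset_singleton]
        exact Finset.card_le_two
      omega
    obtain ⟨x, hx, hxne⟩ := Submodule.exists_mem_ne_zero_of_ne_bot
      (fun hb => hr (by rw [hb, finrank_bot]) : h.bil.orthogonal (Submodule.span F {v0, v1}) ≠ ⊥)
    exact ⟨x, by rw [h.symm]; exact hx v0 (Submodule.subset_span (by simp)),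
      by rw [h.symm]; exact hx v1 (Submodule.subset_span (by simp)), hxne⟩
  obtain ⟨e, he, hxe⟩ := hpair x hxne
  set u2 := π e with hu2
  have hu2ne : u2 ≠ 0 := fun hz => hxe (by
    rw [← hfπ hx0 hx1 e, ← hu2, hz, ← zero_smul F (0 : ι → F), h.symp.bilinear.smul_right, zero_mul])
  obtain ⟨e', he', hxe'⟩ := hpair u2 hu2ne
  set v2 := π e' with hv2
  have hb : f u2 v2 ≠ 0 := by rw [hv2, hfπ (hπ0 e) (hπ1 e)]; exact hxe'
  have g1 : f v0 u2 = 0 := by rw [h.symm]; exact hπ0 e
  have g2 : f v1 v2 = 0 := by rw [h.symm]; exact hπ1 e'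
  have g3 : f v0 v2 = 0 := by rw [h.symm]; exact hπ0 e'
  have g4 : f v1 u2 = 0 := by rw [h.symm]; exact hπ1 e
  have g5 : f v1 v0 ≠ 0 := by rw [h.symm]; exact ha
  have hU := h.finrank_span_pair (a := v0) (b := u2) (x := v1) (y := v2) ha hb (hπ1 e) g3
  have hU' := h.finrank_span_pair (a := v1) (b := v2) (x := v0) (y := u2) g5 (by rw [h.symm]; exact hb) (hπ0 e') g4
  refine h.hasQ_of_ti_pair hiM (inv_span_pair he0 (hπeig e he)) (inv_span_pair hv1 (hπeig e' he')) ?_
    (h.span_pair_ti g1) (h.span_pair_ti g2)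
  refine Submodule.isCompl_iff_disjoint _ _ (by rw [hU, hU', h.dim]) |>.2 ?_
  rw [disjoint_iff, eq_bot_iff]
  rintro y ⟨hy, hy'⟩
  obtain ⟨r, s, rfl⟩ := Submodule.mem_span_pair.1 hy
  have t1 := h.span_pair_ti g2 hy'
  have t2 := t1 v1 (Submodule.subset_span (by simp))
  have t3 := t1 v2 (Submodule.subset_span (by simp))
  change f v1 _ = 0 at t2
  change f v2 _ = 0 at t3
  rw [h.symp.bilinear.add_right, h.symp.bilinear.smul_right, h.symp.bilinear.smul_right, g4,
    mul_zero, add_zero, mul_eq_zero] at t2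
  rw [h.symp.bilinear.add_right, h.symp.bilinear.smul_right, h.symp.bilinear.smul_right, h.symm v2 v0, g3,
    mul_zero, zero_add, mul_eq_zero, h.symm v2 u2] at t3
  rw [t2.resolve_right g5, t3.resolve_right hb]
  simp

/-- a proper invariant subspace without eigenvectors is a plane -/
lemma finrank_eq_two {M : Subgroup (GL ι F)} (hi : Isom f M) (hne : ∀ v, Eig M v → v = 0)
    {W : Submodule F (ι → F)} (hW : Inv M W) (h0 : W ≠ ⊥) (h1 : W ≠ ⊤) : Module.finrank F W = 2 := by
  have hline : ∀ L : Submodule F (ι → F), Inv M L → Module.finrank F L ≤ 1 → L = ⊥ := by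
    intro L hL hr
    obtain ⟨v, hv⟩ := finrank_le_one_iff.1 hr
    have hv0 : (v : ι → F) = 0 := hne _ fun m hm => by
      obtain ⟨c, hc⟩ := hv ⟨_, hL m hm v v.2⟩
      exact ⟨c, (congrArg Subtype.val hc).symm⟩
    refine eq_bot_iff.2 fun x hx => ?_
    obtain ⟨c, hc⟩ := hv ⟨x, hx⟩
    rw [Submodule.mem_bot, show x = c • (v : ι → F) from congrArg Subtype.val hc.symm, hv0, smul_zero]
  have h2 := h.finrank_orth W
  have hlt : Module.finrank F W < 4 := h.dim ▸ Submodule.finrank_lt h1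
  have hgt : 1 < Module.finrank F W := by by_contra hc; exact h0 (hline W hW (by omega))
  by_contra hne2
  have h3 := hline (h.bil.orthogonal W) (h.inv_orth hi hW) (by omega)
  rw [h3, finrank_bot] at h2; omega

lemma hasQ_of_ti {G M : Subgroup (GL ι F)} (hi : Isom f G) (hG : Irr G) (hn : NormalIn G M)
    (hne : ∀ v, Eig M v → v = 0) {U : Submodule F (ι → F)} (hU : Inv M U) (hU2 : Module.finrank F U = 2)
    (hs : U ≤ h.bil.orthogonal U) : HasQ f M := by
  have hiM : Isom f M := fun m hm => hi m (hn.le hm)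
  obtain ⟨g, hg, hgU⟩ : ∃ g ∈ G, U.map (Matrix.toLin' (g : Matrix ι ι F)) ≠ U := by
    by_contra hc
    push Not at hc
    rcases hG U (fun g hg v hv => hc g hg ▸ ⟨v, hv, Matrix.toLin'_apply _ _⟩) with e | e
    · rw [e, finrank_bot] at hU2; omega
    · rw [e, finrank_top, h.dim] at hU2; omega
  set U' := U.map (Matrix.toLin' (g : Matrix ι ι F)) with hU'
  have hU'2 : Module.finrank F U' = 2 := (finrank_map_ac g U).trans hU2
  have hd : U ⊓ U' = ⊥ := by
    by_contra hb
    have h2 := h.finrank_eq_two hiM hne (inv_inf hU (inv_map hn hU hg)) hb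
      (fun ht => by
        have := Submodule.finrank_mono (R := F) (inf_le_left : U ⊓ U' ≤ U)
        rw [ht, finrank_top, h.dim] at this; omega)
    exact hgU (((Submodule.eq_of_le_of_finrank_eq inf_le_right (h2.trans hU'2.symm)).symm).trans
      (Submodule.eq_of_le_of_finrank_eq inf_le_left (h2.trans hU2.symm)))
  refine h.hasQ_of_ti_pair hiM hU (inv_map hn hU hg) ?_ hs ?_
  · exact (Submodule.isCompl_iff_disjoint _ _ (by rw [hU2, hU'2, h.dim])).2 (disjoint_iff.2 hd)
  · refine (Submodule.map_mono hs).trans ?_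
    rw [h.map_orth (fun u v => hi g hg u v)]

/-- a reducible normal subgroup gives a quadratic form or a decomposition -/
theorem reducible_out [Finite F] {G M : Subgroup (GL ι F)} (hi : Isom f G) (hG : Irr G) (hn : NormalIn G M)
    (hred : ¬ Irr M) : HasQ f M ∨ DecOut h G := by
  by_cases hev : ∃ v, v ≠ 0 ∧ Eig M v
  · obtain ⟨v, hv, he⟩ := hev
    exact Or.inl (h.hasQ_of_eig hi hG hn hv he)
  push Not at hev
  have hne : ∀ v, Eig M v → v = 0 := fun v hv => by_contra fun h0 => hev v h0 hv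
  have hiM : Isom f M := fun m hm => hi m (hn.le hm)
  simp only [Irr, not_forall, not_or] at hred
  obtain ⟨U, hU, hU0, hU1⟩ := hred
  have hU2 := h.finrank_eq_two hiM hne hU hU0 hU1
  have hU'i := h.inv_orth hiM hU
  have hUo2 : Module.finrank F (h.bil.orthogonal U) = 2 := by rw [h.finrank_orth, hU2]
  have notTop : ∀ {W : Submodule F (ι → F)}, Module.finrank F W ≤ 2 → W ≠ ⊤ := by
    intro W hW ht; rw [ht, finrank_top, h.dim] at hW; omega
  by_cases hr : U ⊓ h.bil.orthogonal U = ⊥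
  swap
  · refine Or.inl (h.hasQ_of_ti hi hG hn hne hU hU2 ?_)
    have h2 := h.finrank_eq_two hiM hne (inv_inf hU hU'i) hr
      (notTop ((Submodule.finrank_mono inf_le_left).trans hU2.le))
    exact inf_eq_left.1 (Submodule.eq_of_le_of_finrank_eq inf_le_left (h2.trans hU2.symm))
  by_cases hdec : ∀ g ∈ G, U.map (Matrix.toLin' (g : Matrix ι ι F)) = U ∨
      U.map (Matrix.toLin' (g : Matrix ι ι F)) = h.bil.orthogonal U
  · exact Or.inr ⟨U, hU2, hr, hdec⟩
  push Not at hdec
  obtain ⟨g, hg, hgU, hgo⟩ := hdec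
  refine Or.inl ?_
  set U' := U.map (Matrix.toLin' (g : Matrix ι ι F)) with hU'
  have hU'2 : Module.finrank F U' = 2 := (finrank_map_ac g U).trans hU2
  have hU'v : Inv M U' := inv_map hn hU hg
  have hd : ∀ W : Submodule F (ι → F), Inv M W → Module.finrank F W = 2 → U' ≠ W → U' ⊓ W = ⊥ := by
    intro W hW hW2 hne'
    by_contra hb
    have h2 := h.finrank_eq_two hiM hne (inv_inf hU'v hW) hb
      (notTop ((Submodule.finrank_mono inf_le_left).trans hU'2.le))
    exact hne' (((Submodule.eq_of_le_of_finrank_eq inf_le_left (h2.trans hU'2.symm)).symm).trans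
      (Submodule.eq_of_le_of_finrank_eq inf_le_right (h2.trans hW2.symm)))
  have hsup : U ⊔ h.bil.orthogonal U = ⊤ := ((Submodule.isCompl_iff_disjoint _ _ (by rw [hU2, hUo2, h.dim])).2
    (disjoint_iff.2 hr)).sup_eq_top
  have hdecomp : ∀ v : ι → F, ∃ a ∈ U, ∃ b ∈ h.bil.orthogonal U, a + b = v :=
    fun v => Submodule.mem_sup.1 (hsup ▸ Submodule.mem_top)
  have huniq : ∀ {a a' b b' : ι → F}, a ∈ U → a' ∈ U → b ∈ h.bil.orthogonal U → b' ∈ h.bil.orthogonal U →
      a + b = a' + b' → a = a' ∧ b = b' := by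
    intro a a' b b' ha ha' hb hb' he
    have : a - a' ∈ U ⊓ h.bil.orthogonal U := ⟨sub_mem ha ha', by
      rw [show a - a' = b' - b from sub_eq_sub_iff_add_eq_add.2 (by rw [he]; abel)]
      exact sub_mem hb' hb⟩
    rw [hr, Submodule.mem_bot, sub_eq_zero] at this
    exact ⟨this, add_left_cancel (this ▸ he)⟩
  let bb := Module.finBasisOfFinrankEq F U' hU'2
  obtain ⟨a1, ha1, b1, hb1, hw1⟩ := hdecomp (bb 0 : ι → F)
  obtain ⟨a2, ha2, b2, hb2, hw2⟩ := hdecomp (bb 1 : ι → F)
  have hmemU' : ∀ x ∈ U', ∃ r s : F, x = r • (a1 + b1) + s • (a2 + b2) := by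
    intro x hx
    refine ⟨bb.repr ⟨x, hx⟩ 0, bb.repr ⟨x, hx⟩ 1, ?_⟩
    have := congrArg Subtype.val (bb.sum_repr ⟨x, hx⟩)
    rw [Fin.sum_univ_two, Submodule.coe_add, Submodule.coe_smul, Submodule.coe_smul] at this
    rw [hw1, hw2]; exact this.symm
  have hwmem : ∀ r s : F, r • (a1 + b1) + s • (a2 + b2) ∈ U' := fun r s => by
    rw [hw1, hw2]
    exact add_mem (Submodule.smul_mem _ _ (bb 0).2) (Submodule.smul_mem _ _ (bb 1).2)
  have hli : ∀ r s : F, r • (a1 + b1) + s • (a2 + b2) = 0 → r = 0 ∧ s = 0 := by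
    intro r s hrs
    have h0 : r • bb 0 + s • bb 1 = 0 := Subtype.ext (by
      rw [Submodule.coe_add, Submodule.coe_smul, Submodule.coe_smul, ← hw1, ← hw2]; exact hrs)
    have := Fintype.linearIndependent_iff.1 bb.linearIndependent ![r, s] (by simpa [Fin.sum_univ_two] using h0)
    exact ⟨this 0, this 1⟩
  -- independence of the components
  have hA : ∀ r s : F, r • a1 + s • a2 = 0 → r = 0 ∧ s = 0 := by
    intro r s hrs
    refine hli r s ((Submodule.mem_bot F).1 (hd _ hU'i hUo2 hgo ▸ ⟨hwmem r s, ?_⟩))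
    show r • (a1 + b1) + s • (a2 + b2) ∈ h.bil.orthogonal U
    rw [show r • (a1 + b1) + s • (a2 + b2) = (r • a1 + s • a2) + (r • b1 + s • b2) by
      rw [smul_add, smul_add]; abel, hrs, zero_add]
    exact add_mem (Submodule.smul_mem _ _ hb1) (Submodule.smul_mem _ _ hb2)
  have hB : ∀ r s : F, r • b1 + s • b2 = 0 → r = 0 ∧ s = 0 := by
    intro r s hrs
    refine hli r s ((Submodule.mem_bot F).1 (hd _ hU hU2 hgU ▸ ⟨hwmem r s, ?_⟩))
    show r • (a1 + b1) + s • (a2 + b2) ∈ U
    rw [show r • (a1 + b1) + s • (a2 + b2) = (r • a1 + s • a2) + (r • b1 + s • b2) by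
      rw [smul_add, smul_add]; abel, hrs, add_zero]
    exact add_mem (Submodule.smul_mem _ _ ha1) (Submodule.smul_mem _ _ ha2)
  have hfne : ∀ (W : Submodule F (ι → F)), Module.finrank F W = 2 → W ⊓ h.bil.orthogonal W = ⊥ →
      ∀ x ∈ W, ∀ y ∈ W, (∀ r s : F, r • x + s • y = 0 → r = 0 ∧ s = 0) → f x y ≠ 0 := by
    intro W hW2 hW x hx y hy hind h0
    have hsp : Submodule.span F {x, y} = W := by
      refine Submodule.eq_of_le_of_finrank_eq (Submodule.span_le.2 (by
        intro z hz; rcases hz with rfl | rfl <;> assumption)) ?_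
      have h3 := finrank_span_eq_card (LinearIndependent.pair_iff.2 hind)
      rw [Matrix.range_cons_cons_empty, Fintype.card_fin] at h3
      rw [h3, hW2]
    have := h.span_pair_ti h0
    rw [hsp, ← inf_eq_left, hW] at this
    rw [← this, finrank_bot] at hW2; omega
  have hca : f a1 a2 ≠ 0 := hfne U hU2 hr a1 ha1 a2 ha2 hA
  have hcb : f b1 b2 ≠ 0 := hfne _ hUo2 (by rw [h.orth_orth, inf_comm, hr]) b1 hb1 b2 hb2 hB
  obtain ⟨s, hs⟩ : ∃ s : F, s * s = f b1 b2 / f a1 a2 := h.exists_sqrt _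
  have hs0 : s ≠ 0 := fun h0 => div_ne_zero hcb hca (by rw [← hs, h0, mul_zero])
  set c1 := a1 + s⁻¹ • b1 with hc1
  set c2 := a2 + s⁻¹ • b2 with hc2
  have hab : ∀ {a b : ι → F}, a ∈ U → b ∈ h.bil.orthogonal U → f a b = 0 := fun {a b} ha hb => hb a ha
  have hc : f c1 c2 = 0 := by
    rw [hc1, hc2]
    simp only [h.symp.bilinear.add_left, h.symp.bilinear.add_right, h.symp.bilinear.smul_left,
      h.symp.bilinear.smul_right, hab ha1 hb2, h.symm b1 a2, hab ha2 hb1, mul_zero, add_zero, zero_add]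
    rw [show f b1 b2 = s * s * f a1 a2 by rw [hs, div_mul_cancel₀ _ hca]]
    field_simp
    linear_combination (f a1 a2) * h.two
  have hc2r : Module.finrank F (Submodule.span F ({c1, c2} : Set (ι → F))) = 2 := by
    refine h.finrank_span_pair (x := a2) (y := a1) ?_ ?_ ?_ ?_ <;>
      simp only [hc1, hc2, h.symp.bilinear.add_left, h.symp.bilinear.smul_left, h.alt, h.symm b1 a2, h.symm b2 a1,
        h.symm b1 a1, h.symm b2 a2, hab ha2 hb1, hab ha1 hb2, hab ha1 hb1, hab ha2 hb2, mul_zero, add_zero, ne_eq]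
    · exact hca
    · rw [h.symm]; exact hca
  refine h.hasQ_of_ti hi hG hn hne (U := Submodule.span F {c1, c2}) ?_ hc2r (h.span_pair_ti hc)
  intro m hm v hv
  obtain ⟨r, t, rfl⟩ := Submodule.mem_span_pair.1 hv
  have key : ∀ {a b : ι → F}, a ∈ U → b ∈ h.bil.orthogonal U → a + b ∈ U' →
      ac m (a + s⁻¹ • b) ∈ Submodule.span F {c1, c2} := by
    intro a b ha hb hab'
    obtain ⟨x, y, hxy⟩ := hmemU' _ (hU'v m hm _ hab')
    have he : ac m a + ac m b = (x • a1 + y • a2) + (x • b1 + y • b2) := by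
      rw [show ac m a + ac m b = ac m (a + b) from (Matrix.mulVec_add _ _ _).symm, hxy, smul_add, smul_add]; abel
    obtain ⟨e1, e2⟩ := huniq (hU m hm a ha) (add_mem (Submodule.smul_mem _ _ ha1) (Submodule.smul_mem _ _ ha2))
      (hU'i m hm b hb) (add_mem (Submodule.smul_mem _ _ hb1) (Submodule.smul_mem _ _ hb2)) he
    refine Submodule.mem_span_pair.2 ⟨x, y, ?_⟩
    show _ = (m : Matrix ι ι F) *ᵥ (a + s⁻¹ • b)
    rw [Matrix.mulVec_add, Matrix.mulVec_smul, show (m : Matrix ι ι F) *ᵥ a = _ from e1,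
      show (m : Matrix ι ι F) *ᵥ b = _ from e2, hc1, hc2]
    module
  show (m : Matrix ι ι F) *ᵥ (r • c1 + t • c2) ∈ _
  rw [Matrix.mulVec_add, Matrix.mulVec_smul, Matrix.mulVec_smul]
  refine add_mem (Submodule.smul_mem _ _ (key ha1 hb1 ?_)) (Submodule.smul_mem _ _ (key ha2 hb2 ?_))
  · rw [hw1]; exact (bb 0).2
  · rw [hw2]; exact (bb 1).2

end Setup

end Cfsg.Agent.Lib.SpFourEven
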